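import Cfsg.Agent.Lib.Isospectral.PSp4.Orders

/-!
Elements of `PSp₄(q)` of every admissible order.
-/

set_option autoImplicit false
noncomputable section

namespace Cfsg.Agent.PSp4Spec

open Polynomial Matrix
open scoped Classical
open LinearMap (BilinForm)

variable {F : Type*} [Field F]

section Embed

variable {E : Type*} [Field E] [Algebra F E] [FiniteDimensional F E] [Algebra.IsSeparable F E]

/-- The trace of the determinant form on `E²`, as a form over `F`. -/
def detForm : BilinForm F (Fin 2 → E) :=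
  LinearMap.mk₂ F (fun v w => Algebra.trace F E (v 0 * w 1 - v 1 * w 0))
    (fun v v' w => by rw [← map_add]; congr 1; simp; ring)
    (fun c v w => by rw [← map_smul]; congr 1; simp [smul_sub])
    (fun v w w' => by rw [← map_add]; congr 1; simp; ring)
    (fun c v w => by rw [← map_smul]; congr 1; simp [smul_sub, mul_smul_comm])

lemma detForm_apply (v w : Fin 2 → E) :
    detForm (F := F) v w = Algebra.trace F E (v 0 * w 1 - v 1 * w 0) := rfl

lemma detForm_nondeg : (detForm (F := F) (E := E)).Nondegenerate := by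
  have hl : ∀ v, (∀ w, detForm (F := F) (E := E) v w = 0) → v = 0 := by
    intro v hv
    refine funext fun i => ?_
    fin_cases i
    · refine (traceForm_nondegenerate F E).1 _ fun z => ?_
      simpa [detForm_apply] using hv ![0, z]
    · refine (traceForm_nondegenerate F E).1 _ fun z => ?_
      simpa [detForm_apply] using hv ![-z, 0]
  refine ⟨hl, fun v hv => hl v fun w => ?_⟩
  have := hv w
  rw [detForm_apply] at this ⊢
  rw [show v 0 * w 1 - v 1 * w 0 = -(w 0 * v 1 - w 1 * v 0) by ring, map_neg, this, neg_zero]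

theorem exists_embed (hd : Module.finrank F E = 2) :
    ∃ ι : Matrix.SpecialLinearGroup (Fin 2) E →* Matrix.symplecticGroup (Fin 2) F,
      (QuotientGroup.mk (ι (-1)) : Cfsg.PSp 2 F) = 1 ∧
      ∀ h, (QuotientGroup.mk (ι h) : Cfsg.PSp 2 F) = 1 → h = 1 ∨ h = -1 := by
  have hA : (detForm (F := F) (E := E)).IsAlt := fun v => by
    rw [detForm_apply, mul_comm, sub_self, map_zero]
  obtain ⟨b, hb⟩ := SympSpectra.exists_std_basis (n := 2) hA detForm_nondeg (by
    rw [Module.finrank_pi_fintype]; simp [hd])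
  let L : Matrix.SpecialLinearGroup (Fin 2) E → Module.End F (Fin 2 → E) :=
    fun h => (Matrix.toLin' (h : Matrix (Fin 2) (Fin 2) E)).restrictScalars F
  let T : Matrix.SpecialLinearGroup (Fin 2) E → Matrix I4 I4 F := fun h => LinearMap.toMatrix b b (L h)
  have hmul : ∀ g h, T (g * h) = T g * T h := by
    intro g h
    simp only [T]
    rw [← LinearMap.toMatrix_mul]
    congr 1
    refine LinearMap.ext fun v => ?_
    simp [L]
  have h1 : T 1 = 1 := by
    simp only [T]
    rw [show L 1 = 1 by refine LinearMap.ext fun v => ?_; simp [L], LinearMap.toMatrix_one]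
  have hmem : ∀ h, T h ∈ Matrix.symplecticGroup (Fin 2) F := by
    intro h
    rw [ClassicalSp.mem_iff_preserves]
    intro v w
    obtain ⟨x, rfl⟩ := b.equivFun.surjective v
    obtain ⟨y, rfl⟩ := b.equivFun.surjective w
    have hT : ∀ z, T h *ᵥ b.equivFun z = b.equivFun (L h z) := fun z => by
      rw [Module.Basis.equivFun_apply, Module.Basis.equivFun_apply]
      exact LinearMap.toMatrix_mulVec_repr b b (L h) z
    rw [← ClassicalSp.spBilin_apply, ← ClassicalSp.spBilin_apply, hT, hT, ← hb, ← hb, detForm_apply, detForm_apply]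
    congr 1
    have hdet : (h : Matrix (Fin 2) (Fin 2) E) 0 0 * (h : Matrix (Fin 2) (Fin 2) E) 1 1 -
        (h : Matrix (Fin 2) (Fin 2) E) 0 1 * (h : Matrix (Fin 2) (Fin 2) E) 1 0 = 1 := by
      rw [← Matrix.det_fin_two]; exact h.2
    simp [L, Matrix.mulVec, dotProduct, Fin.sum_univ_two]
    linear_combination (x 0 * y 1 - x 1 * y 0) * hdet
  refine ⟨MonoidHom.mk' (fun h => ⟨T h, hmem h⟩) (fun g h => Subtype.ext (hmul g h)), ?_, fun h hh => ?_⟩
  · rw [SympSpectra.mk_eq_one_iff (by norm_num)]
    right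
    show T (-1) = -1
    simp only [T]
    rw [show L (-1) = -1 by refine LinearMap.ext fun v => ?_; simp [L], map_neg, LinearMap.toMatrix_one]
  rw [SympSpectra.mk_eq_one_iff (by norm_num)] at hh
  have key : ∀ c : F, (c = 1 ∨ c = -1) → T h = c • (1 : Matrix I4 I4 F) →
      (h : Matrix (Fin 2) (Fin 2) E) = algebraMap F E c • (1 : Matrix (Fin 2) (Fin 2) E) := by
    intro c hc hTc
    have hL : L h = c • 1 := by
      apply (LinearMap.toMatrix b b).injective
      rw [map_smul, LinearMap.toMatrix_one]
      exact hTc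
    apply Matrix.toLin'.injective
    refine LinearMap.ext fun v => ?_
    have := LinearMap.congr_fun hL v
    simp only [L, LinearMap.restrictScalars_apply, LinearMap.smul_apply, Module.End.one_apply] at this
    rw [this, Matrix.toLin'_apply, Matrix.smul_mulVec, Matrix.one_mulVec]
    ext i
    simp [Algebra.smul_def]
  rcases hh with hh | hh
  · left
    refine Subtype.ext ?_
    rw [key 1 (Or.inl rfl) (by rw [one_smul]; exact hh)]
    simp
  · right
    refine Subtype.ext ?_
    rw [key (-1) (Or.inr rfl) (by rw [neg_one_smul]; exact hh)]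
    simp

end Embed

/-- Two copies of `SL₂` side by side. -/
def pairMat (a b : Matrix (Fin 2) (Fin 2) F) : Matrix I4 I4 F :=
  fromBlocks (diagonal ![a 0 0, b 0 0]) (diagonal ![a 0 1, b 0 1])
    (diagonal ![a 1 0, b 1 0]) (diagonal ![a 1 1, b 1 1])

lemma pairMat_mul (a b a' b' : Matrix (Fin 2) (Fin 2) F) :
    pairMat a b * pairMat a' b' = pairMat (a * a') (b * b') := by
  unfold pairMat
  rw [fromBlocks_multiply]
  congr 1 <;> rw [diagonal_mul_diagonal, diagonal_mul_diagonal, diagonal_add] <;> congr 1 <;>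
    ext i <;> fin_cases i <;> simp [Matrix.mul_apply, Fin.sum_univ_two]

lemma pairMat_one : pairMat (1 : Matrix (Fin 2) (Fin 2) F) 1 = 1 := by
  ext (i | i) (j | j) <;> fin_cases i <;> fin_cases j <;> simp [pairMat]

lemma pairMat_mem (a b : Matrix.SpecialLinearGroup (Fin 2) F) :
    pairMat (a : Matrix (Fin 2) (Fin 2) F) b ∈ Matrix.symplecticGroup (Fin 2) F := by
  have ha := a.2
  have hb := b.2
  rw [Matrix.det_fin_two] at ha hb
  rw [SymplecticGroup.mem_iff, pairMat, Matrix.J, fromBlocks_transpose, fromBlocks_multiply, fromBlocks_multiply]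
  simp only [diagonal_transpose, mul_neg, mul_one, mul_zero, zero_add, add_zero, neg_mul,
    diagonal_mul_diagonal, diagonal_neg, diagonal_add]
  rw [show (1 : Matrix (Fin 2) (Fin 2) F) = diagonal fun _ => 1 from diagonal_one.symm,
    show (0 : Matrix (Fin 2) (Fin 2) F) = diagonal fun _ => 0 from diagonal_zero.symm, diagonal_neg]
  congr 1 <;> congr 1 <;> ext i <;> fin_cases i <;> simp [Pi.neg_apply] <;>
    first
      | ring1
      | linear_combination ha
      | linear_combination hb
      | linear_combination -ha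
      | linear_combination -hb

def pairHom : Matrix.SpecialLinearGroup (Fin 2) F × Matrix.SpecialLinearGroup (Fin 2) F →*
    Matrix.symplecticGroup (Fin 2) F :=
  MonoidHom.mk' (fun ab => ⟨pairMat (ab.1 : Matrix (Fin 2) (Fin 2) F) ab.2, pairMat_mem ab.1 ab.2⟩)
    (fun _ _ => Subtype.ext (pairMat_mul _ _ _ _).symm)

lemma pairHom_mk {a b : Matrix.SpecialLinearGroup (Fin 2) F}
    (h : (QuotientGroup.mk (pairHom (a, b)) : Cfsg.PSp 2 F) = 1) : (a = 1 ∧ b = 1) ∨ (a = -1 ∧ b = -1) := by
  rw [SympSpectra.mk_eq_one_iff (by norm_num)] at h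
  have e : ((pairHom (a, b) : Matrix.symplecticGroup (Fin 2) F) : Matrix I4 I4 F) =
      pairMat (a : Matrix (Fin 2) (Fin 2) F) b := rfl
  rw [e] at h
  rcases h with h | h
  · left
    constructor <;> refine Subtype.ext (Matrix.ext fun i j => ?_)
    · have h00 := congrFun (congrFun h (.inl 0)) (.inl 0)
      have h01 := congrFun (congrFun h (.inl 0)) (.inr 0)
      have h10 := congrFun (congrFun h (.inr 0)) (.inl 0)
      have h11 := congrFun (congrFun h (.inr 0)) (.inr 0)
      simp [pairMat] at h00 h01 h10 h11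
      fin_cases i <;> fin_cases j <;> simp [h00, h01, h10, h11]
    · have h00 := congrFun (congrFun h (.inl 1)) (.inl 1)
      have h01 := congrFun (congrFun h (.inl 1)) (.inr 1)
      have h10 := congrFun (congrFun h (.inr 1)) (.inl 1)
      have h11 := congrFun (congrFun h (.inr 1)) (.inr 1)
      simp [pairMat] at h00 h01 h10 h11
      fin_cases i <;> fin_cases j <;> simp [h00, h01, h10, h11]
  · right
    constructor <;> refine Subtype.ext (Matrix.ext fun i j => ?_)
    · have h00 := congrFun (congrFun h (.inl 0)) (.inl 0)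
      have h01 := congrFun (congrFun h (.inl 0)) (.inr 0)
      have h10 := congrFun (congrFun h (.inr 0)) (.inl 0)
      have h11 := congrFun (congrFun h (.inr 0)) (.inr 0)
      simp [pairMat] at h00 h01 h10 h11
      fin_cases i <;> fin_cases j <;> simp [h00, h01, h10, h11]
    · have h00 := congrFun (congrFun h (.inl 1)) (.inl 1)
      have h01 := congrFun (congrFun h (.inl 1)) (.inr 1)
      have h10 := congrFun (congrFun h (.inr 1)) (.inl 1)
      have h11 := congrFun (congrFun h (.inr 1)) (.inr 1)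
      simp [pairMat] at h00 h01 h10 h11
      fin_cases i <;> fin_cases j <;> simp [h00, h01, h10, h11]

lemma pm_of_sq_eq_one {K : Type*} [Field K] (h2 : (2 : K) ≠ 0) {u : Matrix.SpecialLinearGroup (Fin 2) K}
    (hu : u ^ 2 = 1) : u = 1 ∨ u = -1 := by
  set U : Matrix (Fin 2) (Fin 2) K := (u : Matrix (Fin 2) (Fin 2) K) with hU
  have hUU : U * U = 1 := by simpa [pow_two] using congrArg Subtype.val hu
  have hadj : U.adjugate = U := by
    calc U.adjugate = (U.adjugate * U) * U := by rw [mul_assoc, hUU, mul_one]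
      _ = U := by rw [Matrix.adjugate_mul, show U.det = 1 from u.2, one_smul, one_mul]
  rw [Matrix.adjugate_fin_two] at hadj
  have h00 := congrFun (congrFun hadj 0) 0
  have h01 := congrFun (congrFun hadj 0) 1
  have h10 := congrFun (congrFun hadj 1) 0
  simp at h00 h01 h10
  have hb : U 0 1 = 0 := (mul_eq_zero.1 (show (2 : K) * U 0 1 = 0 by linear_combination -h01)).resolve_left h2
  have hc : U 1 0 = 0 := (mul_eq_zero.1 (show (2 : K) * U 1 0 = 0 by linear_combination -h10)).resolve_left h2
  have hdet : U 0 0 * U 1 1 - U 0 1 * U 1 0 = 1 := by rw [← Matrix.det_fin_two]; exact u.2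
  rw [hb, zero_mul, sub_zero, h00] at hdet
  rcases mul_self_eq_one_iff.1 hdet with h | h
  · left
    refine Subtype.ext ?_
    show U = _
    ext i j; fin_cases i <;> fin_cases j <;> simp [hb, hc, h00, h]
  · right
    refine Subtype.ext ?_
    show U = _
    ext i j; fin_cases i <;> fin_cases j <;> simp [hb, hc, h00, h]

section Finite

variable [Fintype F] (p : ℕ) [hp : Fact p.Prime] [CharP F p]

/-- A unipotent element of `SL₂`. -/
def unipSL (K : Type*) [Field K] : Matrix.SpecialLinearGroup (Fin 2) K :=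
  ⟨!![1, 1; 0, 1], by simp [Matrix.det_fin_two]⟩

omit [Fintype F] in
lemma unipSL_pow (n : ℕ) : ((unipSL F ^ n : Matrix.SpecialLinearGroup (Fin 2) F) : Matrix (Fin 2) (Fin 2) F) =
    !![1, (n : F); 0, 1] := by
  induction n with
  | zero => simp [Matrix.one_fin_two]
  | succ n ih =>
    rw [pow_succ, Matrix.SpecialLinearGroup.coe_mul, ih]
    ext i j; fin_cases i <;> fin_cases j <;> simp [unipSL, Matrix.mul_apply, Fin.sum_univ_two]
    all_goals ring

lemma exists_sl_order (p : ℕ) [Fact p.Prime] [CharP F p] (N : ℕ) (hN : N = Fintype.card F - 1 ∨ N = Fintype.card F + 1) :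
    ∃ h : Matrix.SpecialLinearGroup (Fin 2) F, orderOf h = N := by
  rcases hN with rfl | rfl
  · obtain ⟨x, hx⟩ := exists_unit (F := F) _ dvd_rfl
    refine ⟨diagSL x, ?_⟩
    rw [← hx]
    refine orderOf_eq_orderOf_iff.2 fun n => ?_
    have hpow : ((diagSL x ^ n : Matrix.SpecialLinearGroup (Fin 2) F) : Matrix (Fin 2) (Fin 2) F) =
        diagonal ![((x ^ n : Fˣ) : F), ((x⁻¹ ^ n : Fˣ) : F)] := by
      rw [Matrix.SpecialLinearGroup.coe_pow]
      show diagonal _ ^ n = _
      rw [diagonal_pow]
      congr 1; ext i; fin_cases i <;> simp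
    constructor
    · intro h
      refine Units.ext ?_
      have := congrFun (congrFun (congrArg Subtype.val h) 0) 0
      change ((diagSL x ^ n : Matrix.SpecialLinearGroup (Fin 2) F) : Matrix (Fin 2) (Fin 2) F) 0 0 = _ at this
      rw [hpow] at this
      simpa using this
    · intro h
      refine Subtype.ext ?_
      rw [hpow, inv_pow, h]
      ext i j; fin_cases i <;> fin_cases j <;> simp
  · obtain ⟨L, _, _, y, h, -, hh, -⟩ := exists_nonsplit (F := F) p
    exact ⟨h, hh⟩

include hp in
theorem exists_pq (N : ℕ) (hN : N = Fintype.card F - 1 ∨ N = Fintype.card F + 1) :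
    ∃ g : Cfsg.PSp 2 F, orderOf g = p * N := by
  obtain ⟨t, ht⟩ := exists_sl_order p N hN
  refine ⟨QuotientGroup.mk (pairHom (unipSL F, t)), Nat.dvd_antisymm ?_ ?_⟩
  · refine orderOf_dvd_of_pow_eq_one ?_
    rw [← QuotientGroup.mk_pow, ← map_pow, Prod.pow_mk]
    have h1 : unipSL F ^ (p * N) = 1 := Subtype.ext (by
      rw [unipSL_pow, Nat.cast_mul, CharP.cast_eq_zero, zero_mul]; simp [Matrix.one_fin_two])
    have h2 : t ^ (p * N) = 1 := by rw [mul_comm, pow_mul, ← ht, pow_orderOf_eq_one, one_pow]
    rw [h1, h2]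
    exact (congrArg _ (map_one pairHom)).trans (QuotientGroup.mk_one _)
  · set n := orderOf (QuotientGroup.mk (pairHom (unipSL F, t)) : Cfsg.PSp 2 F)
    have h := pow_orderOf_eq_one (QuotientGroup.mk (pairHom (unipSL F, t)) : Cfsg.PSp 2 F)
    rw [← QuotientGroup.mk_pow, ← map_pow, Prod.pow_mk] at h
    obtain ⟨hu, ht'⟩ : unipSL F ^ n = 1 ∧ t ^ n = 1 := by
      rcases pairHom_mk h with h' | ⟨h1, h2⟩
      · exact h'
      · have := congrFun (congrFun (congrArg Subtype.val h1) 0) 0
        change ((unipSL F ^ n : Matrix.SpecialLinearGroup (Fin 2) F) : Matrix (Fin 2) (Fin 2) F) 0 0 = _ at this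
        rw [unipSL_pow] at this
        have hneg : (-1 : Matrix.SpecialLinearGroup (Fin 2) F) = 1 := by
          refine Subtype.ext ?_
          ext i j
          fin_cases i <;> fin_cases j <;> simp
          all_goals simpa using this.symm
        exact ⟨h1.trans hneg, h2.trans hneg⟩
    have hpn : p ∣ n := by
      rw [← CharP.cast_eq_zero_iff F p]
      have := congrFun (congrFun (congrArg Subtype.val hu) 0) 1
      change ((unipSL F ^ n : Matrix.SpecialLinearGroup (Fin 2) F) : Matrix (Fin 2) (Fin 2) F) 0 1 = _ at this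
      rw [unipSL_pow] at this
      simpa using this
    have hNn : N ∣ n := ht ▸ orderOf_dvd_of_pow_eq_one ht'
    refine Nat.Coprime.mul_dvd_of_dvd_of_dvd ?_ hpn hNn
    rw [Fact.out (p := p.Prime) |>.coprime_iff_not_dvd]
    intro hpN
    obtain ⟨f, -, hf⟩ := FiniteField.card F p
    have hq : p ∣ Fintype.card F := hf ▸ dvd_pow_self p f.ne_zero
    have hq2 : 2 ≤ Fintype.card F := Fintype.one_lt_card
    have h1p : p ∣ 1 := by
      rcases hN with rfl | rfl
      · have := Nat.dvd_sub hq hpN
        rwa [show Fintype.card F - (Fintype.card F - 1) = 1 by omega] at this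
      · exact (Nat.dvd_add_right hq).1 hpN
    exact (Fact.out (p := p.Prime)).not_dvd_one h1p

include hp in
theorem exists_half (N : ℕ) (hN : N = Fintype.card F ^ 2 - 1 ∨ N = Fintype.card F ^ 2 + 1) :
    ∃ g : Cfsg.PSp 2 F, orderOf g = N / dl (Fintype.card F) := by
  haveI : CharP (FiniteField.Extension F p 2) p :=
    charP_of_injective_algebraMap (algebraMap F _).injective p
  let E := FiniteField.Extension F p 2
  haveI : Fintype E := Fintype.ofFinite E
  have hE : Fintype.card E = Fintype.card F ^ 2 := by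
    rw [← Nat.card_eq_fintype_card, FiniteField.natCard_extension, Nat.card_eq_fintype_card]
  obtain ⟨h, hh⟩ := exists_sl_order (F := E) p N (by rwa [hE])
  obtain ⟨ι, hι1, hι⟩ := exists_embed (F := F) (E := E) (FiniteField.finrank_extension F p 2)
  set q := Fintype.card F with hq
  have hq2 : 2 ≤ q := Fintype.one_lt_card
  have hsq : 4 ≤ q ^ 2 := by nlinarith
  have hdN : dl q ∣ N := by
    rw [← dl_sq q (by omega)]
    rcases hN with rfl | rfl
    · exact dl_dvd_sub _
    · exact dl_dvd_add (by omega)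
  refine ⟨QuotientGroup.mk (ι h), Nat.dvd_antisymm ?_ ?_⟩
  · refine orderOf_dvd_of_pow_eq_one ?_
    rw [← QuotientGroup.mk_pow, ← map_pow]
    have hu : (h ^ (N / dl q)) = 1 ∨ (h ^ (N / dl q)) = -1 := by
      rcases dl_cases q with e | e
      · left; rw [e, Nat.div_one, ← hh, pow_orderOf_eq_one]
      · have h2 : (h ^ (N / dl q)) ^ 2 = 1 := by
          rw [← pow_mul, e, Nat.div_mul_cancel (e ▸ hdN), ← hh, pow_orderOf_eq_one]
        refine pm_of_sq_eq_one ?_ h2
        intro h20
        have : p = 2 := (Nat.prime_dvd_prime_iff_eq hp.out Nat.prime_two).1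
          ((CharP.cast_eq_zero_iff E p 2).1 (by exact_mod_cast h20))
        subst this
        obtain ⟨f, -, hf⟩ := FiniteField.card F 2
        have : Odd (q - 1) := Nat.Even.sub_odd (by omega) (hq ▸ hf ▸ (even_two.pow_of_ne_zero f.ne_zero)) odd_one
        rw [dl, Nat.Coprime.gcd_eq_one (Nat.coprime_two_left.2 this)] at e
        omega
    rcases hu with e | e
    · rw [e, map_one, QuotientGroup.mk_one]
    · rw [e]
      exact hι1
  · set n := orderOf (QuotientGroup.mk (ι h) : Cfsg.PSp 2 F)
    have hn := pow_orderOf_eq_one (QuotientGroup.mk (ι h) : Cfsg.PSp 2 F)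
    rw [← QuotientGroup.mk_pow, ← map_pow] at hn
    rcases dl_cases q with e | e
    · rw [e, Nat.div_one]
      rcases hι _ hn with h' | h'
      · exact hh ▸ orderOf_dvd_of_pow_eq_one h'
      · have hneg : (-1 : Matrix.SpecialLinearGroup (Fin 2) E) = 1 := by
          have : p = 2 := by
            by_contra hp2
            have hodd : Odd q := by
              obtain ⟨f, -, hf⟩ := FiniteField.card F p
              rw [hq, hf]; exact (hp.out.odd_of_ne_two hp2).pow
            have := Nat.gcd_eq_left (Nat.Odd.sub_odd hodd odd_one).two_dvd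
            rw [dl] at e
            omega
          subst this
          refine Subtype.ext ?_
          simp [CharTwo.neg_eq]
        exact hh ▸ orderOf_dvd_of_pow_eq_one (h'.trans hneg)
    · rw [e]
      have h2 : h ^ (n * 2) = 1 := by
        rw [pow_mul]
        rcases hι _ hn with h' | h' <;> rw [h'] <;> simp
      have := hh ▸ orderOf_dvd_of_pow_eq_one h2
      refine Nat.dvd_of_mul_dvd_mul_right (by norm_num : 0 < 2) ?_
      rwa [Nat.div_mul_cancel (e ▸ hdN)]

/-- A regular unipotent element. -/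
def regUnip (K : Type*) [Field K] : Matrix I4 I4 K :=
  fromBlocks !![1, 1; 0, 1] !![0, 1; 0, 1] 0 !![1, 0; -1, 1]

omit [Fintype F] in
lemma regUnip_mem : regUnip F ∈ Matrix.symplecticGroup (Fin 2) F := by
  have t1 : (!![1, 1; 0, 1] : Matrix (Fin 2) (Fin 2) F)ᵀ = !![1, 0; 1, 1] := by
    ext i j; fin_cases i <;> fin_cases j <;> rfl
  have t2 : (!![0, 1; 0, 1] : Matrix (Fin 2) (Fin 2) F)ᵀ = !![0, 0; 1, 1] := by
    ext i j; fin_cases i <;> fin_cases j <;> rfl
  have t3 : (!![1, 0; -1, 1] : Matrix (Fin 2) (Fin 2) F)ᵀ = !![1, -1; 0, 1] := by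
    ext i j; fin_cases i <;> fin_cases j <;> rfl
  rw [SymplecticGroup.mem_iff, regUnip, Matrix.J, fromBlocks_transpose, fromBlocks_multiply, fromBlocks_multiply,
    t1, t2, t3]
  ext (i | i) (j | j) <;> fin_cases i <;> fin_cases j <;>
    simp [Matrix.mul_apply, Fin.sum_univ_two, Matrix.neg_apply]

include hp in
theorem exists_unip (hp23 : p = 2 ∨ p = 3) : ∃ g : Cfsg.PSp 2 F, orderOf g = p ^ 2 := by
  set s : Matrix.symplecticGroup (Fin 2) F := ⟨regUnip F, regUnip_mem⟩
  set M := regUnip F with hM
  have h4 : (M - (1 : F) • (1 : Matrix I4 I4 F)) ^ 4 = 0 := by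
    rw [show 4 = 2 * 2 from rfl, pow_mul, pow_two, pow_two, one_smul]
    ext (i | i) (j | j) <;> fin_cases i <;> fin_cases j <;>
      simp [hM, regUnip, Matrix.mul_apply, Fintype.sum_sum_type, Fin.sum_univ_two, Matrix.sub_apply]
  have hp2 : 2 ≤ p := hp.out.two_le
  have h0 := pow_of_nilp M p (1 : F) (j := 2) h4 (by nlinarith)
  refine ⟨QuotientGroup.mk s, orderOf_eq_prime_pow (n := 1) ?_
    (pow_one_of_scalar (pm_pow (Or.inl rfl) (p ^ 2)) h0)⟩
  rw [pow_one, ← QuotientGroup.mk_pow, SympSpectra.mk_eq_one_iff (by norm_num), SubmonoidClass.coe_pow]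
  show ¬ (M ^ p = 1 ∨ M ^ p = -1)
  have hcast := CharP.cast_eq_zero F p
  rcases hp23 with rfl | rfl
  · push_cast at hcast
    rintro (h | h) <;>
    · have h' := congrFun (congrFun h (.inl 0)) (.inr 0)
      rw [pow_two, hM] at h'
      simp [regUnip, Matrix.mul_apply, Fintype.sum_sum_type, Fin.sum_univ_two] at h'
  · push_cast at hcast
    rintro (h | h) <;>
    · have h' := congrFun (congrFun h (.inl 0)) (.inr 0)
      rw [pow_three, hM] at h'
      simp [regUnip, Matrix.mul_apply, Fintype.sum_sum_type, Fin.sum_univ_two] at h'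
      exact one_ne_zero (α := F) (by linear_combination -h' - hcast)

include hp in
theorem range_psp4 {f : ℕ} (hq : Fintype.card F = p ^ f) :
    Set.range (orderOf : Cfsg.PSp 2 F → ℕ) = {d | IsOrd (Fintype.card F) p d} := by
  ext d
  refine ⟨?_, ?_⟩
  · rintro ⟨g, rfl⟩; exact bound p hq g
  · intro h
    have get : ∀ N, (∃ g : Cfsg.PSp 2 F, orderOf g = N) → d ∣ N → d ∈ Set.range (orderOf : Cfsg.PSp 2 F → ℕ) := by
      rintro N ⟨g, rfl⟩ hd
      exact ⟨g ^ (orderOf g / d), orderOf_pow_orderOf_div (orderOf_pos g).ne' hd⟩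
    rcases h with h | h | h | h | ⟨h', h⟩ | ⟨h', h⟩
    · exact get _ (exists_half p _ (Or.inl rfl)) h
    · exact get _ (exists_half p _ (Or.inr rfl)) h
    · exact get _ (exists_pq p _ (Or.inl rfl)) h
    · exact get _ (exists_pq p _ (Or.inr rfl)) h
    · exact get _ (exists_unip p (Or.inr h')) (by subst h'; simpa using h)
    · exact get _ (exists_unip p (Or.inl h')) (by subst h'; simpa using h)

end Finite

end Cfsg.Agent.PSp4Spec
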