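import Cfsg.Agent.Lib.Isospectral.PSp4.Witness

/-!
The two constructions over `SL₂(q²)` in characteristic two and three.
-/

set_option autoImplicit false
noncomputable section

namespace Cfsg.Agent.PSp4Spec

open Matrix Finset
open scoped Classical Kronecker

variable {p : ℕ} [hp : Fact p.Prime] {ι : Type} [Fintype ι] [DecidableEq ι] (W : Twist p ι)
  {E : Type} [Field E] [Fintype E] [CharP E p] {q f : ℕ} (hq : q = p ^ f) (hf : 1 ≤ f)
  (hE : Fintype.card E = q ^ 2) (hW : W.Good q)

include hq hf hE hW in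
theorem range_inner (hWf : W.Fixes q) (hp23 : p = 2 ∨ p = 3) (k : ℕ) (hk : 0 < k)
    (u : Matrix.SpecialLinearGroup (Fin 2) E) (hu : W.hom u ^ p = 1) (v : ι → E)
    (hv : (∑ i ∈ range p, ((W.hom u : (Matrix ι ι E)ˣ) : Matrix ι ι E) ^ i) *ᵥ v ≠ 0) :
    Set.range (orderOf : ModExt (W.hom (E := E)).range k → ℕ) = {d | IsOrd q p d} := by
  ext d
  refine ⟨?_, ?_⟩
  · rintro ⟨z, rfl⟩
    obtain ⟨h, hh⟩ := z.right.2
    rcases inner_cases W hq hf hE hW z h hh.symm with hord | ⟨hr, -⟩
    · exact hord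
    · have h2 := orderOf_dvd_of_pow_eq_one (pow_mul_eq_one p z hr)
      rcases hp23 with e | e
      · exact Or.inr (Or.inr (Or.inr (Or.inr (Or.inr ⟨e, by subst e; simpa using h2⟩))))
      · exact Or.inr (Or.inr (Or.inr (Or.inr (Or.inl ⟨e, by subst e; simpa using h2⟩))))
  · intro hd
    haveI : Finite (ModExt (W.hom (E := E)).range k) := Finite.of_equiv _ SemidirectProduct.equivProd.symm
    have get : ∀ M, (∃ z : ModExt (W.hom (E := E)).range k, orderOf z = M) → d ∣ M →
        d ∈ Set.range (orderOf : ModExt (W.hom (E := E)).range k → ℕ) := by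
      rintro M ⟨z, rfl⟩ hdM
      exact ⟨z ^ (orderOf z / d), orderOf_pow_orderOf_div (orderOf_pos z).ne' hdM⟩
    have half : ∀ N, N = q ^ 2 - 1 ∨ N = q ^ 2 + 1 →
        ∃ z : ModExt (W.hom (E := E)).range k, orderOf z = N / dl q := by
      intro N hN
      obtain ⟨h, hh⟩ := exists_half_hom W hq hf hE hW N hN
      obtain ⟨z, hz⟩ := exists_inr (k := k) (⟨W.hom h, h, rfl⟩ : (W.hom (E := E)).range)
      exact ⟨z, by rw [hz, ← Subgroup.orderOf_coe, hh]⟩
    have pmul : ∀ N, N = q - 1 ∨ N = q + 1 →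
        ∃ z : ModExt (W.hom (E := E)).range k, orderOf z = p * N := by
      intro N hN
      obtain ⟨h, w, hw, hord, hfix, hpN⟩ := exists_fixed_hom W hq hf hE hW hWf N hN
      have e : orderOf (⟨W.hom h, h, rfl⟩ : (W.hom (E := E)).range) = N := by
        rw [← Subgroup.orderOf_coe, hord]
      obtain ⟨z, hz⟩ := exists_mul_char (k := k) p hk (⟨W.hom h, h, rfl⟩ : (W.hom (E := E)).range) w hw hfix
        (by rw [e]; exact hpN)
      exact ⟨z, by rw [hz, e]⟩
    have sq : ∃ z : ModExt (W.hom (E := E)).range k, orderOf z = p ^ 2 :=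
      exists_sq_char p hk (⟨W.hom u, u, rfl⟩ : (W.hom (E := E)).range) v (Subtype.ext hu) hv
    rcases hd with h | h | h | h | ⟨e, h⟩ | ⟨e, h⟩
    · exact get _ (half _ (Or.inl rfl)) h
    · exact get _ (half _ (Or.inr rfl)) h
    · exact get _ (pmul _ (Or.inl rfl)) h
    · exact get _ (pmul _ (Or.inr rfl)) h
    · exact get _ sq (by rw [e]; exact h)
    · exact get _ sq (by rw [e]; exact h)

/-- The upper unitriangular element. -/
def upper (K : Type) [Field K] : Matrix.SpecialLinearGroup (Fin 2) K :=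
  ⟨!![1, 1; 0, 1], by simp [Matrix.det_fin_two]⟩

lemma upper_pow (K : Type) [Field K] (n : ℕ) :
    (upper K : Matrix (Fin 2) (Fin 2) K) ^ n = !![1, (n : K); 0, 1] := by
  induction n with
  | zero => ext i j; fin_cases i <;> fin_cases j <;> simp
  | succ n ih =>
    rw [pow_succ, ih]
    show !![1, (n : K); 0, 1] * !![1, 1; 0, 1] = _
    ext i j
    fin_cases i <;> fin_cases j <;> simp [Matrix.mul_apply, Fin.sum_univ_two] <;> ring

lemma frm_upper (K : Type) [Field K] [CharP K p] (i n : ℕ) :
    frm p K i !![1, (n : K); 0, 1] = !![1, (n : K); 0, 1] := by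
  ext a b
  fin_cases a <;> fin_cases b <;> simp [frm, map_natCast]

variable (E) in
include hp in
lemma upper_pow_char : W.hom (upper E) ^ p = 1 := by
  refine W.hom_pow_eq_one (c := 1) (Or.inl rfl) ?_
  rw [upper_pow, CharP.cast_eq_zero, one_smul]
  ext i j; fin_cases i <;> fin_cases j <;> simp

include hq hf hE in
theorem range_two (h2 : p = 2) (k : ℕ) (hk : 0 < k) :
    Set.range (orderOf : ModExt ((twTwo p f).hom (E := E)).range k → ℕ) = {d | IsOrd q p d} := by
  refine range_inner (twTwo p f) hq hf hE (twTwo_good hq hf) (twTwo_fixes hq hf h2) (Or.inl h2) k hk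
    (upper E) (upper_pow_char _ E) (Pi.single (1, 1) 1) fun h => ?_
  have := congrFun h (1, 0)
  simp only [Matrix.mulVec_single_one, Matrix.col_apply, Matrix.sum_apply, Twist.hom_val, ← Twist.T_pow,
    upper_pow, Pi.zero_apply] at this
  subst h2
  simp only [twTwo, frm_upper, Finset.sum_range_succ, Finset.sum_range_zero, Matrix.kroneckerMap_apply] at this
  norm_num at this

include hq hE in
theorem range_four {u : ℕ} (hu : 1 ≤ u) (h3 : p = 3) (hqu : q = 9 ^ u) (k : ℕ) (hk : 0 < k) :
    Set.range (orderOf : ModExt ((twFour p f).hom (E := E)).range k → ℕ) = {d | IsOrd q p d} := by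
  have hf : 1 ≤ f := by
    rcases Nat.eq_zero_or_pos f with e | e
    · have := Nat.one_lt_pow (show u ≠ 0 by omega) (show 1 < 9 by norm_num)
      rw [← hqu, hq, e, pow_zero] at this; omega
    · exact e
  refine range_inner (twFour p f) hq hf hE (twFour_good hu h3 hqu hq) (twFour_fixes hu h3 hqu hq) (Or.inr h3) k hk
    (upper E) (upper_pow_char _ E) (Pi.single ((1, 1), (1, 1)) 1) fun h => ?_
  have := congrFun h ((1, 1), (0, 0))
  simp only [Matrix.mulVec_single_one, Matrix.col_apply, Matrix.sum_apply, Twist.hom_val, ← Twist.T_pow,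
    upper_pow, Pi.zero_apply] at this
  subst h3
  simp only [twFour, frm_upper, Finset.sum_range_succ, Finset.sum_range_zero, Matrix.kroneckerMap_apply] at this
  norm_num at this
  have h5 : ((5 : ℕ) : E) = 0 := by push_cast; linear_combination this
  have := (CharP.cast_eq_zero_iff E 3 5).1 h5
  norm_num at this

end Cfsg.Agent.PSp4Spec
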