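import Mathlib

/-!
Semidirect products of a matrix group with a power of its natural module over a field of characteristic `p`.
-/

set_option autoImplicit false
noncomputable section

namespace Cfsg.Agent.PSp4Spec

open Matrix Finset

variable {E : Type} [Field E] {ι : Type} [Fintype ι] [DecidableEq ι]

/-- The action of a group of invertible matrices on `k` copies of the natural module. -/
def modAct (G : Subgroup (Matrix ι ι E)ˣ) (k : ℕ) : G →* MulAut (Multiplicative (Fin k → ι → E)) where
  toFun g :=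
    { toFun := fun v => Multiplicative.ofAdd fun j => ((g : (Matrix ι ι E)ˣ) : Matrix ι ι E) *ᵥ v.toAdd j
      invFun := fun v => Multiplicative.ofAdd fun j =>
        (((g : (Matrix ι ι E)ˣ)⁻¹ : (Matrix ι ι E)ˣ) : Matrix ι ι E) *ᵥ v.toAdd j
      left_inv := fun v => by
        refine Multiplicative.toAdd.injective (funext fun j => ?_)
        simp [Matrix.mulVec_mulVec]
      right_inv := fun v => by
        refine Multiplicative.toAdd.injective (funext fun j => ?_)
        simp [Matrix.mulVec_mulVec]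
      map_mul' := fun v w => by
        refine Multiplicative.toAdd.injective (funext fun j => ?_)
        simp [Matrix.mulVec_add] }
  map_one' := by
    refine MulEquiv.ext fun v => ?_
    simp
  map_mul' g g' := by
    refine MulEquiv.ext fun v => ?_
    simp [Matrix.mulVec_mulVec]

/-- `k` copies of the module, extended by `G`. -/
abbrev ModExt (G : Subgroup (Matrix ι ι E)ˣ) (k : ℕ) :=
  Multiplicative (Fin k → ι → E) ⋊[modAct G k] G

variable {G : Subgroup (Matrix ι ι E)ˣ} {k : ℕ}

/-- The matrix of the top component. -/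
abbrev topMat (z : ModExt G k) : Matrix ι ι E := ((z.right : (Matrix ι ι E)ˣ) : Matrix ι ι E)

lemma right_pow (z : ModExt G k) (N : ℕ) : (z ^ N).right = z.right ^ N :=
  map_pow SemidirectProduct.rightHom z N

lemma topMat_pow (z : ModExt G k) (N : ℕ) : topMat z ^ N = ((z.right ^ N : G) : (Matrix ι ι E)ˣ).val := by
  simp [topMat]

lemma left_pow (z : ModExt G k) (N : ℕ) (j : Fin k) :
    (z ^ N).left.toAdd j = (∑ i ∈ range N, topMat z ^ i) *ᵥ z.left.toAdd j := by
  induction N with
  | zero => simp
  | succ N ih =>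
    rw [pow_succ, SemidirectProduct.mul_left, Finset.sum_range_succ, Matrix.add_mulVec]
    show (z ^ N).left.toAdd j + _ = _
    rw [ih, right_pow]
    rw [topMat_pow]
    rfl


theorem pow_eq_one_of_sum (z : ModExt G k) {N : ℕ} (hg : z.right ^ N = 1)
    (hs : ∑ i ∈ range N, topMat z ^ i = 0) : z ^ N = 1 := by
  refine SemidirectProduct.ext ?_ (by rw [right_pow, hg]; rfl)
  refine Multiplicative.toAdd.injective (funext fun j => ?_)
  rw [left_pow, hs, Matrix.zero_mulVec]
  rfl

theorem pow_eq_one_of_free (z : ModExt G k) {N : ℕ} (hg : z.right ^ N = 1)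
    (hd : (topMat z - 1).det ≠ 0) : z ^ N = 1 := by
  refine pow_eq_one_of_sum z hg ?_
  have h := mul_geom_sum (topMat z) N
  rw [topMat_pow, hg] at h
  simp only [OneMemClass.coe_one, Units.val_one, sub_self] at h
  have hu : IsUnit (topMat z - 1) := (Matrix.isUnit_iff_isUnit_det _).2 hd.isUnit
  exact hu.mul_right_eq_zero.1 h

theorem pow_mul_eq_one (p : ℕ) [CharP E p] (z : ModExt G k) {N : ℕ} (hg : z.right ^ N = 1) :
    z ^ (p * N) = 1 := by
  have e : z ^ N = SemidirectProduct.inl (z ^ N).left :=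
    SemidirectProduct.ext (by simp) (by simp [right_pow, hg])
  rw [mul_comm, pow_mul, e, ← map_pow]
  convert map_one (SemidirectProduct.inl (φ := modAct G k))
  refine Multiplicative.toAdd.injective (funext fun j => funext fun i => ?_)
  simp [CharP.cast_eq_zero]

theorem exists_inr (g : G) : ∃ z : ModExt G k, orderOf z = orderOf g :=
  ⟨SemidirectProduct.inr g, orderOf_injective _ SemidirectProduct.inr_injective g⟩

theorem exists_mul_char [Finite E] (p : ℕ) [hp : Fact p.Prime] [CharP E p] (hk : 0 < k) (g : G) (v : ι → E) (hv : v ≠ 0)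
    (hfix : ((g : (Matrix ι ι E)ˣ) : Matrix ι ι E) *ᵥ v = v) (hN : ¬ p ∣ orderOf g) :
    ∃ z : ModExt G k, orderOf z = p * orderOf g := by
  haveI : Finite (ModExt G k) := Finite.of_equiv _ SemidirectProduct.equivProd.symm
  let z : ModExt G k := ⟨Multiplicative.ofAdd fun _ => v, g⟩
  refine ⟨z, Nat.dvd_antisymm (orderOf_dvd_of_pow_eq_one (pow_mul_eq_one p z (pow_orderOf_eq_one g))) ?_⟩
  have h1 : orderOf g ∣ orderOf z := orderOf_map_dvd SemidirectProduct.rightHom z
  refine Nat.Coprime.mul_dvd_of_dvd_of_dvd ((hp.out.coprime_iff_not_dvd).2 hN) ?_ h1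
  have hpowfix : ∀ i, topMat z ^ i *ᵥ v = v := by
    intro i
    induction i with
    | zero => simp
    | succ i ih => rw [pow_succ, ← Matrix.mulVec_mulVec, show topMat z *ᵥ v = v from hfix, ih]
  have hl := left_pow z (orderOf z) ⟨0, hk⟩
  rw [pow_orderOf_eq_one] at hl
  have h0 : ((orderOf z : ℕ) : E) • v = 0 := by
    have : (∑ i ∈ range (orderOf z), topMat z ^ i) *ᵥ v = ((orderOf z : ℕ) : E) • v := by
      rw [Matrix.sum_mulVec, Finset.sum_congr rfl (fun i _ => hpowfix i), Finset.sum_const, card_range,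
        Nat.cast_smul_eq_nsmul]
    rw [← this]
    exact hl.symm
  exact (CharP.cast_eq_zero_iff E p _).1 ((smul_eq_zero.1 h0).resolve_right hv)

theorem exists_sq_char (p : ℕ) [hp : Fact p.Prime] [CharP E p] (hk : 0 < k) (g : G) (v : ι → E)
    (hg : g ^ p = 1) (hs : (∑ i ∈ range p, ((g : (Matrix ι ι E)ˣ) : Matrix ι ι E) ^ i) *ᵥ v ≠ 0) :
    ∃ z : ModExt G k, orderOf z = p ^ 2 := by
  let z : ModExt G k := ⟨Multiplicative.ofAdd fun _ => v, g⟩
  refine ⟨z, orderOf_eq_prime_pow (n := 1) ?_ ?_⟩
  · rw [pow_one]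
    intro h
    have := left_pow z p ⟨0, hk⟩
    rw [h] at this
    exact hs this.symm
  · rw [pow_succ, pow_one]
    exact pow_mul_eq_one p z hg

theorem card_big [Finite E] [Nonempty ι] (k : ℕ) : 2 ^ k ≤ Nat.card (ModExt G k) := by
  haveI : Fintype E := Fintype.ofFinite E
  rw [SemidirectProduct.card, Nat.card_eq_fintype_card (α := Multiplicative (Fin k → ι → E))]
  have h1 : 2 ^ k ≤ Fintype.card (Multiplicative (Fin k → ι → E)) := by
    rw [Fintype.card_multiplicative, Fintype.card_fun, Fintype.card_fin]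
    exact Nat.pow_le_pow_left Fintype.one_lt_card k
  exact h1.trans (Nat.le_mul_of_pos_right _ Nat.card_pos)

/-- The geometric sum in characteristic `p`. -/
theorem geom_sum_char (p : ℕ) [hp : Fact p.Prime] [CharP E p] (A : Matrix ι ι E) :
    ∑ i ∈ range p, A ^ i = (A - 1) ^ (p - 1) := by
  have h : (∑ i ∈ range p, (Polynomial.X : Polynomial E) ^ i) = (Polynomial.X - 1) ^ (p - 1) := by
    apply mul_right_cancel₀ (Polynomial.X_sub_C_ne_zero (1 : E))
    rw [map_one, geom_sum_mul, ← pow_succ, Nat.sub_add_cancel hp.out.one_le, sub_pow_char, one_pow]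
  have := congrArg (Polynomial.aeval A) h
  simpa using this

theorem geom_sum_two_mul (A : Matrix ι ι E) (n : ℕ) :
    ∑ i ∈ range (2 * n), A ^ i = (1 + A) * ∑ i ∈ range n, (A ^ 2) ^ i := by
  induction n with
  | zero => simp
  | succ n ih =>
    rw [Nat.mul_succ, Finset.sum_range_succ, Finset.sum_range_succ, ih, Finset.sum_range_succ, mul_add,
      ← pow_mul, add_mul (1 : Matrix ι ι E) A (A ^ (2 * n)), one_mul, ← pow_succ', add_assoc]

end Cfsg.Agent.PSp4Spec
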