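import Mathlib

/-!
Powers of a matrix from the powers of its eigenvalues; elements of `SL₂` over a finite field.
-/

set_option autoImplicit false
noncomputable section

namespace Cfsg.Agent.PSp4Spec

open Polynomial Matrix
open scoped Classical

/-- `1` in characteristic two, `2` otherwise, as a function of the order of the field. -/
def dl (q : ℕ) : ℕ := Nat.gcd 2 (q - 1)

lemma dl_cases (q : ℕ) : dl q = 1 ∨ dl q = 2 :=
  (Nat.dvd_prime Nat.prime_two).1 (Nat.gcd_dvd_left _ _)

lemma dl_dvd_sub (q : ℕ) : dl q ∣ q - 1 := Nat.gcd_dvd_right _ _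

lemma dl_dvd_add {q : ℕ} (hq : 0 < q) : dl q ∣ q + 1 := by
  have h : q + 1 = (q - 1) + 2 := by omega
  rw [h]
  exact dvd_add (dl_dvd_sub q) (Nat.gcd_dvd_left _ _)

lemma dl_sq (q : ℕ) (hq : 0 < q) : dl (q ^ 2) = dl q := by
  unfold dl
  rcases Nat.even_or_odd q with h | h
  · have h1 : Odd (q - 1) := Nat.Even.sub_odd hq h odd_one
    have h2 : Odd (q ^ 2 - 1) := Nat.Even.sub_odd (Nat.one_le_pow _ _ hq) (h.pow_of_ne_zero two_ne_zero) odd_one
    rw [Nat.Coprime.gcd_eq_one (Nat.coprime_two_left.2 h1), Nat.Coprime.gcd_eq_one (Nat.coprime_two_left.2 h2)]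
  · have h1 : Even (q - 1) := Nat.Odd.sub_odd h odd_one
    have h2 : Even (q ^ 2 - 1) := Nat.Odd.sub_odd h.pow odd_one
    rw [Nat.gcd_eq_left h1.two_dvd, Nat.gcd_eq_left h2.two_dvd]

section Roots

variable {F : Type*} [Field F] {ι : Type*} [Fintype ι] [DecidableEq ι]

local notation "φ" => algebraMap F (AlgebraicClosure F)

/-- The eigenvalues of a matrix with multiplicity. -/
def eig (M : Matrix ι ι F) : Multiset (AlgebraicClosure F) := (M.map φ).charpoly.roots

lemma card_eig (M : Matrix ι ι F) : Multiset.card (eig M) = Fintype.card ι := by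
  rw [eig, IsAlgClosed.card_roots_eq_natDegree, Matrix.charpoly_natDegree_eq_dim]

theorem nilp_of_eig (M : Matrix ι ι F) (e k : ℕ) (c : F) (he : 0 < e)
    (h : ∀ x ∈ eig M, x ^ e = φ c) (hk : ∀ x, (eig M).count x ≤ k) :
    (M ^ e - c • (1 : Matrix ι ι F)) ^ k = 0 := by
  classical
  have hP : (X ^ e - C c : F[X]).map φ ≠ 0 :=
    (Polynomial.map_ne_zero_iff (φ).injective).2 (X_pow_sub_C_ne_zero he c)
  have hdvd : (M.map φ).charpoly ∣ ((X ^ e - C c : F[X]) ^ k).map φ := by
    rw [Polynomial.map_pow]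
    rw [(IsAlgClosed.splits (M.map φ).charpoly).eq_prod_roots_of_monic (Matrix.charpoly_monic _)]
    rw [Multiset.prod_X_sub_C_dvd_iff_le_roots (pow_ne_zero _ hP), Polynomial.roots_pow]
    rw [Multiset.le_iff_count]
    intro x
    rw [Multiset.count_nsmul]
    by_cases hx : x ∈ eig M
    · have h1 : 1 ≤ ((X ^ e - C c : F[X]).map φ).roots.count x := by
        rw [Multiset.one_le_count_iff_mem, mem_roots hP]
        simp [h x hx]
      calc (M.map φ).charpoly.roots.count x ≤ k * 1 := by rw [mul_one]; exact hk x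
        _ ≤ _ := Nat.mul_le_mul_left k h1
    · rw [show (M.map φ).charpoly.roots.count x = 0 from Multiset.count_eq_zero.2 hx]
      exact Nat.zero_le _
  rw [Matrix.charpoly_map, Polynomial.map_dvd_map' ] at hdvd
  obtain ⟨w, hw⟩ := hdvd
  have := congrArg (aeval M) hw
  rw [map_mul, Matrix.aeval_self_charpoly, zero_mul, map_pow, map_sub, map_pow, aeval_X, aeval_C,
    Algebra.algebraMap_eq_smul_one] at this
  exact this

theorem pow_of_nilp (M : Matrix ι ι F) (p : ℕ) [Fact p.Prime] [CharP F p] [Nonempty ι] {k : ℕ} (c : F) {j : ℕ}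
    (h : (M - c • (1 : Matrix ι ι F)) ^ k = 0) (hj : k ≤ p ^ j) :
    M ^ p ^ j = c ^ p ^ j • (1 : Matrix ι ι F) := by
  have h1 := pow_eq_zero_of_le hj h
  rw [sub_pow_char_pow_of_commute p j ((Commute.one_right M).smul_right c), _root_.smul_pow, one_pow,
    sub_eq_zero] at h1
  exact h1

theorem pow_of_eig (M : Matrix ι ι F) (p : ℕ) [Fact p.Prime] [CharP F p] [Nonempty ι] (e k : ℕ) (c : F) (he : 0 < e)
    (h : ∀ x ∈ eig M, x ^ e = φ c) (hk : ∀ x, (eig M).count x ≤ k) {j : ℕ} (hj : k ≤ p ^ j) :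
    M ^ (e * p ^ j) = c ^ p ^ j • (1 : Matrix ι ι F) := by
  rw [pow_mul]
  exact pow_of_nilp _ p c (nilp_of_eig M e k c he h hk) hj

theorem ne_zero_of_eig {M : Matrix ι ι F} (hM : M.det ≠ 0) {x : AlgebraicClosure F} (hx : x ∈ eig M) :
    x ≠ 0 := by
  rintro rfl
  have h := (mem_roots (Matrix.charpoly_monic _).ne_zero).1 hx
  rw [IsRoot, ← coeff_zero_eq_eval_zero] at h
  have hd := Matrix.det_eq_sign_charpoly_coeff (M.map φ)
  rw [h, mul_zero, ← RingHom.mapMatrix_apply, ← RingHom.map_det] at hd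
  exact hM ((map_eq_zero _).1 hd)

theorem eig_count_pow [Fintype F] (M : Matrix ι ι F) (x : AlgebraicClosure F) :
    (eig M).count (x ^ Fintype.card F) = (eig M).count x := by
  classical
  let fr : AlgebraicClosure F →+* AlgebraicClosure F :=
    (FiniteField.frobeniusAlgHom F (AlgebraicClosure F)).toRingHom
  have hfr : ∀ y, fr y = y ^ Fintype.card F := fun y => rfl
  have hcomp : fr.comp φ = φ := RingHom.ext fun a => by
    rw [RingHom.comp_apply, hfr, ← map_pow, FiniteField.pow_card]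
  have hmap : (M.map φ).charpoly.map fr = (M.map φ).charpoly := by
    rw [Matrix.charpoly_map, Polynomial.map_map, hcomp]
  have := Polynomial.roots_map_of_injective_of_card_eq_natDegree fr.injective
    (IsAlgClosed.card_roots_eq_natDegree (p := (M.map φ).charpoly))
  rw [hmap] at this
  unfold eig
  conv_lhs => rw [← this, ← hfr, Multiset.count_map_eq_count' _ _ fr.injective]

theorem eig_count_inv (G : Matrix ι ι F) (hG : IsUnit G.det) {A : Matrix ι ι F} (hA : Aᵀ * G * A = G)
    (x : AlgebraicClosure F) : (eig A).count x⁻¹ = (eig A).count x := by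
  classical
  have hd : IsUnit A.det := by
    have := congrArg Matrix.det hA
    rw [det_mul, det_mul, det_transpose] at this
    exact isUnit_of_mul_isUnit_right (this.symm ▸ hG)
  have hinv : A⁻¹.charpoly = A.charpoly := by
    have h : A⁻¹ = G⁻¹ * (Aᵀ * G) :=
      Matrix.inv_eq_left_inv (by rw [mul_assoc, hA, Matrix.nonsing_inv_mul _ hG])
    rw [h, Matrix.charpoly_mul_comm, mul_assoc, Matrix.mul_nonsing_inv _ hG, mul_one, Matrix.charpoly_transpose]
  obtain ⟨c, hc, hrev⟩ : ∃ c : F, c ≠ 0 ∧ A.charpoly = C c * A.charpoly.reverse := by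
    have h := Matrix.charpoly_inv A ((Matrix.isUnit_iff_isUnit_det _).2 hd)
    rw [hinv, ← Matrix.reverse_charpoly] at h
    refine ⟨(-1) ^ Fintype.card ι * Ring.inverse A.det, mul_ne_zero (pow_ne_zero _ (by simp)) ?_, ?_⟩
    · rw [Ring.inverse_eq_inv']; exact inv_ne_zero hd.ne_zero
    · rw [map_mul, map_pow, map_neg, map_one]; exact h
  set p := (A.map φ).charpoly with hp
  have hpm : p = A.charpoly.map φ := Matrix.charpoly_map A φ
  have hrev' : p = C (φ c) * p.reverse := by
    have hr : p.reverse = A.charpoly.reverse.map φ := by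
      rw [hpm, Polynomial.reverse, Polynomial.reverse, natDegree_map_eq_of_injective (φ).injective, reflect_map]
    rw [hr, hpm]
    conv_lhs => rw [hrev]
    rw [Polynomial.map_mul, map_C]
  have hp0 : p ≠ 0 := (Matrix.charpoly_monic _).ne_zero
  have key : ∀ y : AlgebraicClosure F, p.roots.count y ≤ p.roots.count y⁻¹ := by
    intro y
    rcases eq_or_ne y 0 with rfl | hy
    · rw [_root_.inv_zero]
    rw [count_roots, count_roots]
    obtain ⟨w, hw⟩ := pow_rootMultiplicity_dvd p y
    rw [le_rootMultiplicity_iff hp0]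
    have hlin : (X - C y).reverse = C (-y) * (X - C y⁻¹) := by
      rw [Polynomial.reverse, natDegree_X_sub_C, reflect_sub]
      rw [show reflect 1 (X : (AlgebraicClosure F)[X]) = 1 by simpa using reflect_one_X, reflect_C, pow_one]
      rw [map_neg, mul_sub, ← map_neg, ← map_mul, neg_mul, mul_inv_cancel₀ hy, map_neg, map_neg, map_one]
      ring
    have hpw : ∀ n : ℕ, ((X - C y) ^ n).reverse = C ((-y) ^ n) * (X - C y⁻¹) ^ n := by
      intro n
      induction n with
      | zero => simpa using (Polynomial.reverse_C (1 : AlgebraicClosure F))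
      | succ n ih => rw [pow_succ, reverse_mul_of_domain, ih, hlin, map_pow, map_pow, pow_succ, pow_succ]; ring
    conv_rhs => rw [hrev', hw, reverse_mul_of_domain, hpw]
    exact Dvd.intro (C (φ c) * C ((-y) ^ rootMultiplicity y p) * w.reverse) (by ring)
  exact le_antisymm (by simpa [eig, hp] using key x⁻¹) (key x)

end Roots

section Sign

variable {K : Type*} [Field K]

lemma pow_div_sq {x : K} {d N : ℕ} (hd : d = 1 ∨ d = 2) (hdN : d ∣ N) (hx : x ^ N = 1) :
    x ^ (N / d) = 1 ∨ x ^ (N / d) = -1 := by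
  rcases hd with rfl | rfl
  · left; rwa [Nat.div_one]
  · rw [← sq_eq_one_iff, ← pow_mul, Nat.div_mul_cancel hdN, hx]

end Sign

/-! ### two by two -/

section Two

variable {F : Type*} [Field F]

local notation "φ" => algebraMap F (AlgebraicClosure F)

lemma eig_two (h : Matrix.SpecialLinearGroup (Fin 2) F) :
    ∃ x : AlgebraicClosure F, x ≠ 0 ∧ eig (h : Matrix (Fin 2) (Fin 2) F) = {x, x⁻¹} ∧
      x + x⁻¹ = φ (h : Matrix (Fin 2) (Fin 2) F).trace := by
  classical
  set M := (h : Matrix (Fin 2) (Fin 2) F)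
  obtain ⟨x, hx⟩ := IsAlgClosed.exists_root ((M.map φ).charpoly) (by
    rw [Matrix.charpoly_degree_eq_dim]; simp)
  have hd : (M.map φ).det = 1 := by
    rw [← RingHom.mapMatrix_apply, ← RingHom.map_det, h.2, map_one]
  have ht : (M.map φ).trace = φ M.trace := by simp [Matrix.trace_fin_two]
  have hc : (M.map φ).charpoly = X ^ 2 - C (φ M.trace) * X + C 1 := by
    rw [Matrix.charpoly_fin_two, hd, ht]
  rw [IsRoot, hc] at hx
  simp only [eval_add, eval_sub, eval_pow, eval_X, eval_mul, eval_C] at hx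
  have hx0 : x ≠ 0 := by rintro rfl; simp at hx
  have hsum : x + x⁻¹ = φ M.trace := by field_simp; linear_combination hx
  refine ⟨x, hx0, ?_, hsum⟩
  have hc' : (M.map φ).charpoly = (X - C x) * (X - C x⁻¹) := by
    rw [hc, ← hsum, map_add, show (C (1 : AlgebraicClosure F)) = C x * C x⁻¹ by
      rw [← map_mul, mul_inv_cancel₀ hx0]]
    ring
  rw [eig, hc', roots_mul (mul_ne_zero (X_sub_C_ne_zero _) (X_sub_C_ne_zero _)), roots_X_sub_C,
    roots_X_sub_C]
  rfl

variable [Fintype F]

/-- An element of `SL₂` whose trace lies in the subfield of order `r`. -/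
theorem two_cases (h : Matrix.SpecialLinearGroup (Fin 2) F) {r : ℕ} (hr : 2 ≤ r) (d : ℕ)
    (hd : d = 1 ∨ d = 2) (hd1 : d ∣ r - 1) (hd2 : d ∣ r + 1)
    (ht : (h : Matrix (Fin 2) (Fin 2) F).trace ^ r = (h : Matrix (Fin 2) (Fin 2) F).trace)
    (hfr : ∀ a b : AlgebraicClosure F, (a + b) ^ r = a ^ r + b ^ r) :
    (∃ c : F, (c = 1 ∨ c = -1) ∧
      ((h : Matrix (Fin 2) (Fin 2) F) - c • (1 : Matrix (Fin 2) (Fin 2) F)) ^ 2 = 0) ∨
    ((∃ x : AlgebraicClosure F, x ∈ eig (h : Matrix (Fin 2) (Fin 2) F) ∧ x ≠ x⁻¹ ∧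
        (x ^ (r - 1) = 1 ∨ x ^ (r + 1) = 1)) ∧
      ∃ c : F, (c = 1 ∨ c = -1) ∧
        ((h : Matrix (Fin 2) (Fin 2) F) ^ ((r - 1) / d) = c • (1 : Matrix (Fin 2) (Fin 2) F) ∨
          (h : Matrix (Fin 2) (Fin 2) F) ^ ((r + 1) / d) = c • (1 : Matrix (Fin 2) (Fin 2) F))) := by
  classical
  obtain ⟨x, hx0, hroots, hsum⟩ := eig_two h
  set M := (h : Matrix (Fin 2) (Fin 2) F)
  by_cases hxx : x = x⁻¹
  · left
    have h2 : x * x = 1 := by
      conv_lhs => arg 2; rw [hxx]
      exact mul_inv_cancel₀ hx0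
    obtain ⟨c, hc, hxc⟩ : ∃ c : F, (c = 1 ∨ c = -1) ∧ x = φ c := by
      rcases mul_self_eq_one_iff.1 h2 with e | e
      · exact ⟨1, Or.inl rfl, by rw [e, map_one]⟩
      · exact ⟨-1, Or.inr rfl, by rw [e, map_neg, map_one]⟩
    refine ⟨c, hc, ?_⟩
    have := nilp_of_eig M 1 2 c one_pos (fun y hy => ?_) (fun y => ?_)
    · rwa [pow_one] at this
    · rw [hroots, ← hxx] at hy
      simp at hy
      rw [hy, pow_one, hxc]
    · exact (Multiset.count_le_card _ _).trans (le_of_eq (by rw [hroots]; rfl))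
  · right
    have hxr : x ^ r + (x ^ r)⁻¹ = x + x⁻¹ := by
      rw [← inv_pow, ← hfr, hsum, ← map_pow, ht]
    have hpm : x ^ r = x ∨ x ^ r = x⁻¹ := by
      have h0 : x ^ r ≠ 0 := pow_ne_zero _ hx0
      have : (x ^ r - x) * (x ^ r - x⁻¹) = 0 := by
        linear_combination (x ^ r) * hxr - mul_inv_cancel₀ h0 + mul_inv_cancel₀ hx0
      exact (mul_eq_zero.1 this).imp sub_eq_zero.1 sub_eq_zero.1
    have hpm' : x ^ (r - 1) = 1 ∨ x ^ (r + 1) = 1 := by
      rcases hpm with e | e
      · left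
        apply mul_right_cancel₀ hx0
        rw [one_mul, ← pow_succ, Nat.sub_add_cancel (by omega), e]
      · right
        rw [pow_succ, e, inv_mul_cancel₀ hx0]
    refine ⟨⟨x, by simp [hroots], hxx, hpm'⟩, ?_⟩
    have key : ∀ N, d ∣ N → 0 < N → x ^ N = 1 → ∃ c : F, (c = 1 ∨ c = -1) ∧
        M ^ (N / d) = c • (1 : Matrix (Fin 2) (Fin 2) F) := by
      intro N hdN hN hxN
      obtain ⟨c, hc, hxc⟩ : ∃ c : F, (c = 1 ∨ c = -1) ∧ x ^ (N / d) = φ c := by
        rcases pow_div_sq hd hdN hxN with e | e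
        · exact ⟨1, Or.inl rfl, by rw [e, map_one]⟩
        · exact ⟨-1, Or.inr rfl, by rw [e, map_neg, map_one]⟩
      have hpos : 0 < N / d := Nat.div_pos (Nat.le_of_dvd hN hdN) (by omega)
      have := nilp_of_eig M (N / d) 1 c hpos (fun y hy => ?_) (fun y => ?_)
      · exact ⟨c, hc, by rwa [pow_one, sub_eq_zero] at this⟩
      · rw [hroots] at hy
        simp at hy
        rcases hy with rfl | rfl
        · exact hxc
        · rw [inv_pow, hxc]
          rcases hc with rfl | rfl <;> simp [inv_neg]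
      · rw [hroots]
        have : ({x, x⁻¹} : Multiset (AlgebraicClosure F)).Nodup := by simp [hxx]
        exact Multiset.nodup_iff_count_le_one.1 this y
    rcases hpm' with e | e
    · obtain ⟨c, hc, h'⟩ := key _ hd1 (by omega) e
      exact ⟨c, hc, Or.inl h'⟩
    · obtain ⟨c, hc, h'⟩ := key _ hd2 (by omega) e
      exact ⟨c, hc, Or.inr h'⟩

/-- A diagonal element. -/
def diagSL (x : Fˣ) : Matrix.SpecialLinearGroup (Fin 2) F :=
  ⟨diagonal ![(x : F), ((x⁻¹ : Fˣ) : F)], by simp [Matrix.det_diagonal, Fin.prod_univ_two]⟩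

lemma exists_unit (N : ℕ) (hN : N ∣ Fintype.card F - 1) : ∃ x : Fˣ, orderOf x = N := by
  obtain ⟨g, hg⟩ := IsCyclic.exists_ofOrder_eq_natCard (α := Fˣ)
  rw [Nat.card_units, Nat.card_eq_fintype_card] at hg
  exact ⟨g ^ (orderOf g / N), orderOf_pow_orderOf_div (orderOf_pos g).ne' (hg ▸ hN)⟩

/-- An element of the non-split torus with an eigenvalue of order `q + 1` in some extension. -/
theorem exists_nonsplit (p : ℕ) [Fact p.Prime] [CharP F p] :
    ∃ (L : Type) (_ : Field L) (_ : Algebra F L) (y : Lˣ) (h : Matrix.SpecialLinearGroup (Fin 2) F),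
      orderOf y = Fintype.card F + 1 ∧ orderOf h = Fintype.card F + 1 ∧
      (((h : Matrix (Fin 2) (Fin 2) F).map (algebraMap F L)).charpoly).IsRoot (y : L) := by
  classical
  let L := FiniteField.Extension F p 2
  let b : Module.Basis (Fin 2) F L :=
    (Module.finBasis F L).reindex (finCongr (FiniteField.finrank_extension F p 2))
  obtain ⟨w, hw⟩ := IsCyclic.exists_generator (α := Lˣ)
  set q := Fintype.card F with hq
  have hq2 : 2 ≤ q := Fintype.one_lt_card
  have ho : orderOf w = (q - 1) * (q + 1) := by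
    rw [orderOf_eq_card_of_forall_mem_zpowers hw, Nat.card_units, FiniteField.natCard_extension,
      Nat.card_eq_fintype_card, ← hq]
    have e := Nat.sq_sub_sq q 1
    rw [one_pow] at e
    rw [e, mul_comm]
  set y : Lˣ := w ^ (q - 1) with hy
  have hoy : orderOf y = q + 1 := by
    rw [hy, orderOf_pow' _ (by omega), ho, Nat.gcd_eq_right (dvd_mul_right _ _),
      Nat.mul_div_cancel_left _ (by omega)]
  have hdw : (Algebra.leftMulMatrix b (w : L)).det ≠ 0 :=
    ((w.isUnit.map (Algebra.leftMulMatrix b)).map Matrix.detMonoidHom).ne_zero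
  let h : Matrix.SpecialLinearGroup (Fin 2) F := ⟨Algebra.leftMulMatrix b (y : L), by
    rw [hy, Units.val_pow_eq_pow_val, map_pow, Matrix.det_pow, hq]
    exact FiniteField.pow_card_sub_one_eq_one _ hdw⟩
  refine ⟨L, inferInstance, inferInstance, y, h, hoy, ?_, ?_⟩
  · rw [← hoy]
    refine orderOf_eq_orderOf_iff.2 fun N => ?_
    constructor
    · intro e
      refine Units.ext (Algebra.leftMulMatrix_injective b ?_)
      have := congrArg Subtype.val e
      rw [Matrix.SpecialLinearGroup.coe_pow, Matrix.SpecialLinearGroup.coe_one] at this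
      rw [Units.val_pow_eq_pow_val, map_pow, Units.val_one, map_one]
      exact this
    · intro e
      refine Subtype.ext ?_
      rw [Matrix.SpecialLinearGroup.coe_pow]
      show Algebra.leftMulMatrix b (y : L) ^ N = _
      rw [← map_pow, ← Units.val_pow_eq_pow_val, e]
      simp
  · rw [Matrix.charpoly_map, IsRoot, eval_map, ← aeval_def]
    refine Algebra.leftMulMatrix_injective b ?_
    rw [map_zero, ← aeval_algHom_apply]
    exact Matrix.aeval_self_charpoly _

end Two

end Cfsg.Agent.PSp4Spec
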