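import Cfsg.Agent.Lib.Spectra.SympModels
import Cfsg.Agent.Lib.Isospectral.PSp4.Roots

/-!
The element orders of `PSp 4 q`.
-/

set_option autoImplicit false
noncomputable section

namespace Cfsg.Agent.PSp4Spec

open Polynomial Matrix
open scoped Classical
open LinearMap (BilinForm)

/-- The element orders of `PSp₄(q)`, `q` a power of `p`. -/
def IsOrd (q p d : ℕ) : Prop :=
  d ∣ (q ^ 2 - 1) / dl q ∨ d ∣ (q ^ 2 + 1) / dl q ∨ d ∣ p * (q - 1) ∨ d ∣ p * (q + 1) ∨
    (p = 3 ∧ d ∣ 9) ∨ (p = 2 ∧ d ∣ 4)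

variable {F : Type*} [Field F]

abbrev I4 := Fin 2 ⊕ Fin 2

local notation "φ" => algebraMap F (AlgebraicClosure F)

lemma pow_one_of_scalar {s : Matrix.symplecticGroup (Fin 2) F} {N : ℕ} {c : F} (hc : c = 1 ∨ c = -1)
    (h : (s : Matrix I4 I4 F) ^ N = c • (1 : Matrix I4 I4 F)) : (QuotientGroup.mk s : Cfsg.PSp 2 F) ^ N = 1 := by
  rw [← QuotientGroup.mk_pow, SympSpectra.mk_eq_one_iff (by norm_num), SubmonoidClass.coe_pow, h]
  rcases hc with rfl | rfl <;> simp

lemma pm_pow {c : F} (hc : c = 1 ∨ c = -1) (n : ℕ) : c ^ n = 1 ∨ c ^ n = -1 := by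
  rcases hc with rfl | rfl
  · exact Or.inl (one_pow n)
  · exact neg_one_pow_eq_or F n

variable [Fintype F] (p : ℕ) [hp : Fact p.Prime] [CharP F p]

include hp in
theorem bound {f : ℕ} (hq : Fintype.card F = p ^ f) (g : Cfsg.PSp 2 F) :
    IsOrd (Fintype.card F) p (orderOf g) := by
  obtain ⟨s, rfl⟩ := QuotientGroup.mk_surjective g
  set q := Fintype.card F with hqdef
  set M : Matrix I4 I4 F := (s : Matrix I4 I4 F) with hM
  have hq2 : 2 ≤ q := Fintype.one_lt_card
  haveI : CharP (AlgebraicClosure F) p := charP_of_injective_algebraMap (φ).injective p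
  have hp2 : 2 ≤ p := hp.out.two_le
  have hpq : p = 2 ∨ Odd q := by
    rcases hp.out.eq_two_or_odd' with h | h
    · exact Or.inl h
    · exact Or.inr (hq ▸ h.pow)
  have hMJ : Mᵀ * Matrix.J (Fin 2) F * M = Matrix.J (Fin 2) F := SymplecticGroup.mem_iff'.1 s.2
  have hJ : IsUnit (Matrix.J (Fin 2) F).det := Matrix.isUnit_det_J (Fin 2) F
  have hdet : M.det ≠ 0 := by rw [hM, SymplecticGroup.det_eq_one s.2]; exact one_ne_zero
  have hfrob : ∀ a b : AlgebraicClosure F, (a + b) ^ q = a ^ q + b ^ q := fun a b => by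
    rw [hq]; exact add_pow_char_pow a b p f
  have hinjq : ∀ a b : AlgebraicClosure F, a ^ q = b ^ q → a = b := fun a b h =>
    (FiniteField.frobeniusAlgHom F (AlgebraicClosure F)).toRingHom.injective h
  have hcinv : ∀ x, (eig M).count x⁻¹ = (eig M).count x := eig_count_inv _ hJ hMJ
  have hcpow : ∀ x, (eig M).count (x ^ q) = (eig M).count x := eig_count_pow M
  have hcard : Multiset.card (eig M) = 4 := by rw [card_eig]; simp
  have hmem : ∀ x, x ∈ eig M → x⁻¹ ∈ eig M ∧ x ^ q ∈ eig M := fun x hx => by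
    constructor <;> rw [← Multiset.count_pos] <;> simp only [hcinv, hcpow] <;> exact Multiset.count_pos.2 hx
  have hsub : ∀ S : Finset (AlgebraicClosure F), ∑ x ∈ S, (eig M).count x ≤ 4 := by
    intro S
    rw [← hcard, ← Multiset.toFinset_sum_count_eq (eig M)]
    calc ∑ x ∈ S, (eig M).count x = ∑ x ∈ S ∩ (eig M).toFinset, (eig M).count x := by
          refine (Finset.sum_subset Finset.inter_subset_left fun x hxS hx => ?_).symm
          rw [Multiset.count_eq_zero]
          exact fun h => hx (Finset.mem_inter.2 ⟨hxS, Multiset.mem_toFinset.2 h⟩)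
      _ ≤ _ := Finset.sum_le_sum_of_subset Finset.inter_subset_right
  have fin : ∀ (e k j : ℕ) (c : F), 0 < e → (c = 1 ∨ c = -1) → (∀ x ∈ eig M, x ^ e = φ c) →
      (∀ x, (eig M).count x ≤ k) → k ≤ p ^ j →
      orderOf (QuotientGroup.mk s : Cfsg.PSp 2 F) ∣ e * p ^ j := fun e k j c he hc h hk hj =>
    orderOf_dvd_of_pow_eq_one (pow_one_of_scalar (pm_pow hc _) (pow_of_eig M p e k c he h hk hj))
  by_cases hB : ∃ z ∈ eig M, z ^ q ≠ z ∧ z ^ q ≠ z⁻¹
  · -- four distinct eigenvalues in one orbit
    obtain ⟨z, hz, hz1, hz2⟩ := hB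
    have hz0 : z ≠ 0 := ne_zero_of_eig hdet hz
    have hzz : z ≠ z⁻¹ := by
      intro e
      have h2 : z * z = 1 := by
        conv_lhs => arg 2; rw [e]
        exact mul_inv_cancel₀ hz0
      apply hz1
      rcases mul_self_eq_one_iff.1 h2 with h | h <;> rw [h]
      · exact one_pow q
      · rcases hpq with hp' | hodd
        · have : (-1 : AlgebraicClosure F) = 1 := by
            subst hp'
            exact CharTwo.neg_eq 1
          rw [this, one_pow]
        · exact hodd.neg_one_pow
    have hqq : z ^ q ≠ (z ^ q)⁻¹ := fun e => hzz (hinjq _ _ (by rw [inv_pow]; exact e))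
    have d3 : z ≠ (z ^ q)⁻¹ := fun e => hz2 (inv_eq_iff_eq_inv.2 e).symm
    have d4 : z⁻¹ ≠ (z ^ q)⁻¹ := fun e => hz1 (inv_injective e).symm
    let S : Finset (AlgebraicClosure F) := {z, z⁻¹, z ^ q, (z ^ q)⁻¹}
    have hScard : ∀ x, x ∈ eig M → x ∈ S ∧ (eig M).count x = 1 := by
      intro x hx
      have hpos : 0 < (eig M).count z := Multiset.count_pos.2 hz
      have h4 := hsub S
      simp only [S] at h4
      rw [Finset.sum_insert (by simp [hzz, Ne.symm hz1, d3]),
        Finset.sum_insert (by simp [Ne.symm hz2, d4]),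
        Finset.sum_insert (by simp [hqq]), Finset.sum_singleton, hcinv, hcinv, hcpow] at h4
      have hxS : x ∈ S := by
        by_contra hxS
        have h5 := hsub (insert x S)
        rw [Finset.sum_insert hxS] at h5
        simp only [S] at h5
        rw [Finset.sum_insert (by simp [hzz, Ne.symm hz1, d3]),
          Finset.sum_insert (by simp [Ne.symm hz2, d4]),
          Finset.sum_insert (by simp [hqq]), Finset.sum_singleton, hcinv, hcinv, hcpow] at h5
        have := Multiset.count_pos.2 hx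
        omega
      refine ⟨hxS, ?_⟩
      simp only [S, Finset.mem_insert, Finset.mem_singleton] at hxS
      rcases hxS with rfl | rfl | rfl | rfl <;> simp only [hcinv, hcpow] at * <;> omega
    have hzS := (hScard _ (hmem _ (hmem z hz).2).2).1
    have hper : (z ^ q) ^ q = z ∨ (z ^ q) ^ q = z⁻¹ := by
      simp only [S, Finset.mem_insert, Finset.mem_singleton] at hzS
      rcases hzS with h | h | h | h
      · exact Or.inl h
      · exact Or.inr h
      · exact absurd (hinjq _ _ h) hz1
      · exact absurd (hinjq _ z⁻¹ (by rw [h, inv_pow])) hz2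
    have key : ∀ N, 0 < N → dl q ∣ N → z ^ N = 1 →
        orderOf (QuotientGroup.mk s : Cfsg.PSp 2 F) ∣ N / dl q := by
      intro N hN hdN hzN
      obtain ⟨c, hc, hzc⟩ : ∃ c : F, (c = 1 ∨ c = -1) ∧ z ^ (N / dl q) = φ c := by
        rcases pow_div_sq (dl_cases q) hdN hzN with e | e
        · exact ⟨1, Or.inl rfl, by rw [e, map_one]⟩
        · exact ⟨-1, Or.inr rfl, by rw [e, map_neg, map_one]⟩
      have hpos : 0 < N / dl q := Nat.div_pos (Nat.le_of_dvd hN hdN) (by rcases dl_cases q with h | h <;> omega)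
      have := fin (N / dl q) 1 0 c hpos hc (fun x hx => ?_) (fun x => ?_) (by simp)
      · simpa using this
      · have hcq : (φ c) ^ q = φ c := by rw [← map_pow, FiniteField.pow_card]
        have hci : (φ c)⁻¹ = φ c := by rcases hc with rfl | rfl <;> simp [inv_neg]
        have hxS := (hScard x hx).1
        simp only [S, Finset.mem_insert, Finset.mem_singleton] at hxS
        rcases hxS with rfl | rfl | rfl | rfl
        · exact hzc
        · rw [inv_pow, hzc, hci]
        · rw [← pow_mul, mul_comm, pow_mul, hzc, hcq]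
        · rw [inv_pow, ← pow_mul, mul_comm, pow_mul, hzc, hcq, hci]
      · by_cases hx : x ∈ eig M
        · rw [(hScard x hx).2]
        · rw [Multiset.count_eq_zero.2 hx]; exact Nat.zero_le _
    have hsq : 4 ≤ q ^ 2 := by nlinarith
    rcases hper with h | h
    · left
      refine key _ (by omega) (by rw [← dl_sq q (by omega)]; exact dl_dvd_sub _) ?_
      apply mul_right_cancel₀ hz0
      rw [one_mul, ← pow_succ, Nat.sub_add_cancel (by omega), pow_two, pow_mul, h]
    · right; left
      refine key _ (by omega) (by rw [← dl_sq q (by omega)]; exact dl_dvd_add (by omega)) ?_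
      rw [pow_succ, pow_two, pow_mul, h, inv_mul_cancel₀ hz0]
  push Not at hB
  have htype : ∀ x ∈ eig M, x ^ (q - 1) = 1 ∨ x ^ (q + 1) = 1 := by
    intro x hx
    have hx0 := ne_zero_of_eig hdet hx
    rcases eq_or_ne (x ^ q) x with h | h
    · left
      apply mul_right_cancel₀ hx0
      rw [one_mul, ← pow_succ, Nat.sub_add_cancel (by omega), h]
    · right
      rw [pow_succ, hB x hx h, inv_mul_cancel₀ hx0]
  by_cases hA : ∀ x ∈ eig M, x ^ 2 = 1
  · by_cases hp3 : p = 2 ∨ p = 3
    · by_cases hone : ∀ x ∈ eig M, ∀ y ∈ eig M, x = y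
      · obtain ⟨x, hx⟩ := Multiset.card_pos_iff_exists_mem.1 (show 0 < Multiset.card (eig M) by omega)
        obtain ⟨c, hc, hxc⟩ : ∃ c : F, (c = 1 ∨ c = -1) ∧ x = φ c := by
          rcases sq_eq_one_iff.1 (hA x hx) with e | e
          · exact ⟨1, Or.inl rfl, by rw [e, map_one]⟩
          · exact ⟨-1, Or.inr rfl, by rw [e, map_neg, map_one]⟩
        have h4 : 4 ≤ p ^ 2 := by nlinarith
        have := fin 1 4 2 c one_pos hc (fun y hy => by rw [pow_one, hone y hy x hx, hxc])
          (fun y => hcard ▸ Multiset.count_le_card _ _) h4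
        rcases hp3 with rfl | rfl
        · exact Or.inr (Or.inr (Or.inr (Or.inr (Or.inr ⟨rfl, by simpa using this⟩))))
        · exact Or.inr (Or.inr (Or.inr (Or.inr (Or.inl ⟨rfl, by simpa using this⟩))))
      · push Not at hone
        obtain ⟨x, hx, y, hy, hxy⟩ := hone
        rcases hp3 with rfl | rfl
        · exfalso
          have e : (-1 : AlgebraicClosure F) = 1 := CharTwo.neg_eq 1
          apply hxy
          rcases sq_eq_one_iff.1 (hA x hx) with h | h <;> rcases sq_eq_one_iff.1 (hA y hy) with h' | h' <;>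
            simp [h, h', e]
        · have := fin 2 3 1 1 two_pos (Or.inl rfl) (fun z hz => by rw [hA z hz, map_one]) (fun z => ?_) (by norm_num)
          · refine Or.inr (Or.inr (Or.inl (this.trans ?_)))
            have hodd : Odd q := hpq.resolve_left (by norm_num)
            rw [pow_one, mul_comm 2 3]
            exact mul_dvd_mul_left 3 (Nat.Odd.sub_odd hodd odd_one).two_dvd
          · by_cases hz : z = x
            · have h := hsub {z, y}
              rw [Finset.sum_pair (by rw [hz]; exact hxy)] at h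
              have := Multiset.count_pos.2 hy
              omega
            · have h := hsub {z, x}
              rw [Finset.sum_pair hz] at h
              have := Multiset.count_pos.2 hx
              omega
    · push Not at hp3
      have h4 : 4 ≤ p ^ 1 := by
        rw [pow_one]
        omega
      have := fin 2 4 1 1 two_pos (Or.inl rfl) (fun z hz => by rw [hA z hz, map_one])
        (fun z => hcard ▸ Multiset.count_le_card _ _) h4
      refine Or.inr (Or.inr (Or.inl (this.trans ?_)))
      have hodd : Odd q := hpq.resolve_left hp3.1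
      rw [pow_one, mul_comm 2 p]
      exact mul_dvd_mul_left p (Nat.Odd.sub_odd hodd odd_one).two_dvd
  push Not at hA
  obtain ⟨x, hx, hx2⟩ := hA
  have hx0 := ne_zero_of_eig hdet hx
  have hxx : x ≠ x⁻¹ := fun e => hx2 (by
    rw [pow_two]; conv_lhs => arg 2; rw [e]
    exact mul_inv_cancel₀ hx0)
  have hxpos := Multiset.count_pos.2 hx
  have hk2 : ∀ z, (eig M).count z ≤ 2 := by
    intro z
    by_cases hz : z = x ∨ z = x⁻¹
    · have h := hsub {x, x⁻¹}
      rw [Finset.sum_pair hxx, hcinv] at h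
      rcases hz with rfl | rfl
      · omega
      · rw [hcinv]; omega
    · push Not at hz
      have h := hsub {z, x, x⁻¹}
      rw [Finset.sum_insert (by simp [hz]), Finset.sum_pair hxx, hcinv] at h
      omega
  have hp2' : 2 ≤ p ^ 1 := by rw [pow_one]; exact hp2
  by_cases hm : ∀ z ∈ eig M, z ^ (q - 1) = 1
  · have := fin (q - 1) 2 1 1 (by omega) (Or.inl rfl) (fun z hz => by rw [hm z hz, map_one]) hk2 hp2'
    exact Or.inr (Or.inr (Or.inl (by rwa [pow_one, mul_comm] at this)))
  by_cases hm' : ∀ z ∈ eig M, z ^ (q + 1) = 1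
  · have := fin (q + 1) 2 1 1 (by omega) (Or.inl rfl) (fun z hz => by rw [hm' z hz, map_one]) hk2 hp2'
    exact Or.inr (Or.inr (Or.inr (Or.inl (by rwa [pow_one, mul_comm] at this))))
  push Not at hm hm'
  obtain ⟨z, hz, hzm⟩ := hm
  obtain ⟨y, hy, hyp⟩ := hm'
  have hzp : z ^ (q + 1) = 1 := (htype z hz).resolve_left hzm
  have hym : y ^ (q - 1) = 1 := (htype y hy).resolve_right hyp
  have hzi : ∀ w, w ∈ eig M → w = w⁻¹ → w ^ (q - 1) = 1 ∧ w ^ (q + 1) = 1 := by
    intro w hw e
    have h2 : w ^ 2 = 1 := by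
      rw [pow_two]; conv_lhs => arg 2; rw [e]
      exact mul_inv_cancel₀ (ne_zero_of_eig hdet hw)
    rcases hpq with hp' | hodd
    · subst hp'
      have : w = 1 := (sq_eq_one_iff.1 h2).elim id fun h => by rw [h]; exact CharTwo.neg_eq 1
      rw [this]; simp
    · obtain ⟨r, hr⟩ := hodd
      constructor
      · rw [show q - 1 = 2 * r by omega, pow_mul, h2, one_pow]
      · rw [show q + 1 = 2 * (r + 1) by omega, pow_mul, h2, one_pow]
  have hzz : z ≠ z⁻¹ := fun e => hzm (hzi z hz e).1
  have hyy : y ≠ y⁻¹ := fun e => hyp (hzi y hy e).2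
  have hyz : y ≠ z := fun e => hzm (e ▸ hym)
  have hyz' : y ≠ z⁻¹ := fun e => hzm (by rw [e, inv_pow, inv_eq_one] at hym; exact hym)
  have hzy' : z ≠ y⁻¹ := fun e => hyz' (by rw [e, inv_inv])
  have hyz2 : y⁻¹ ≠ z⁻¹ := fun e => hyz (inv_injective e)
  have h4 := hsub {y, y⁻¹, z, z⁻¹}
  rw [Finset.sum_insert (by simp [hyy, hyz, hyz']), Finset.sum_insert (by simp [Ne.symm hzy', hyz2]),
    Finset.sum_pair hzz, hcinv, hcinv] at h4
  have hypos := Multiset.count_pos.2 hy
  have hzpos := Multiset.count_pos.2 hz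
  have hd : dl q ∣ q + 1 := dl_dvd_add (by omega)
  have hd' : dl q ∣ q - 1 := dl_dvd_sub q
  have hprod : (q ^ 2 - 1) = (q - 1) * (q + 1) := by
    have e := Nat.sq_sub_sq q 1
    rw [one_pow] at e
    rw [e, mul_comm]
  have hE1 : q - 1 ∣ (q ^ 2 - 1) / dl q := ⟨(q + 1) / dl q, by rw [hprod, Nat.mul_div_assoc _ hd]⟩
  have hE2 : q + 1 ∣ (q ^ 2 - 1) / dl q := ⟨(q - 1) / dl q, by rw [hprod, mul_comm (q - 1), Nat.mul_div_assoc _ hd']⟩
  have hEpos : 0 < (q ^ 2 - 1) / dl q := by
    refine Nat.div_pos (Nat.le_of_dvd (by rw [hprod]; exact Nat.mul_pos (by omega) (by omega)) (by rw [hprod]; exact Dvd.dvd.mul_right hd' _)) ?_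
    rcases dl_cases q with h | h <;> omega
  left
  have := fin ((q ^ 2 - 1) / dl q) 1 0 1 hEpos (Or.inl rfl) (fun w hw => ?_) (fun w => ?_) (by simp)
  · simpa using this
  · rw [map_one]
    rcases htype w hw with h | h
    · exact orderOf_dvd_iff_pow_eq_one.1 ((orderOf_dvd_of_pow_eq_one h).trans hE1)
    · exact orderOf_dvd_iff_pow_eq_one.1 ((orderOf_dvd_of_pow_eq_one h).trans hE2)
  · by_cases hw : w ∈ ({y, y⁻¹, z, z⁻¹} : Finset (AlgebraicClosure F))
    · simp only [Finset.mem_insert, Finset.mem_singleton] at hw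
      rcases hw with rfl | rfl | rfl | rfl <;> simp only [hcinv] at * <;> omega
    · have h5 := hsub (insert w {y, y⁻¹, z, z⁻¹})
      rw [Finset.sum_insert hw, Finset.sum_insert (by simp [hyy, hyz, hyz']),
        Finset.sum_insert (by simp [Ne.symm hzy', hyz2]), Finset.sum_pair hzz, hcinv, hcinv] at h5
      omega

end Cfsg.Agent.PSp4Spec
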