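import Cfsg.Agent.Lib.Isospectral.PSp4.Witness

/-!
The construction over `SL₂(q²).⟨σ⟩` in characteristic at least five.
-/

set_option autoImplicit false
noncomputable section

namespace Cfsg.Agent.PSp4Spec

open Matrix Finset
open scoped Classical Kronecker

lemma cube_zero {R : Type} [Ring R] (a b : R) (ha : a * a = 0) (hb : b * b = 0) (hba : b * a = a * b) :
    (a + b + a * b) ^ 3 = 0 := by
  have h1 : ∀ x, a * (a * x) = 0 := fun x => by rw [← mul_assoc, ha, zero_mul]
  have h2 : ∀ x, b * (b * x) = 0 := fun x => by rw [← mul_assoc, hb, zero_mul]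
  have h3 : ∀ x, b * (a * x) = a * (b * x) := fun x => by rw [← mul_assoc, hba, mul_assoc]
  simp [pow_succ, pow_zero, mul_add, add_mul, mul_assoc, ha, hb, hba, h1, h2, h3]

/-- Minus the swap of the two factors. -/
def sMat (E : Type) [Field E] : Matrix I2 I2 E := fun i j => if i = j.swap then -1 else 0

lemma mul_sMat {E : Type} [Field E] (A : Matrix I2 I2 E) (i j : I2) : (A * sMat E) i j = -A i j.swap := by
  simp [sMat, Matrix.mul_apply]

lemma sMat_mul {E : Type} [Field E] (A : Matrix I2 I2 E) (i j : I2) : (sMat E * A) i j = -A i.swap j := by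
  rw [Matrix.mul_apply, Finset.sum_eq_single i.swap]
  · simp [sMat]
  · intro k _ hk
    simp only [sMat]
    rw [if_neg (fun h => hk (by rw [h, Prod.swap_swap])), zero_mul]
  · simp

lemma sMat_sq (E : Type) [Field E] : sMat E * sMat E = 1 := by
  ext i j
  rw [sMat_mul]
  simp only [sMat, Matrix.one_apply, Prod.swap_inj]
  split_ifs <;> simp

lemma sMat_vec {E : Type} [Field E] (v : I2 → E) (i : I2) : (sMat E *ᵥ v) i = -v i.swap := by
  rw [Matrix.mulVec, dotProduct, Finset.sum_eq_single i.swap]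
  · simp [sMat]
  · intro k _ hk
    simp only [sMat]
    rw [if_neg (fun h => hk (by rw [h, Prod.swap_swap])), zero_mul]
  · simp

/-- The swap, as a unit. -/
def sUnit (E : Type) [Field E] : (Matrix I2 I2 E)ˣ := ⟨sMat E, sMat E, sMat_sq E, sMat_sq E⟩

variable {p : ℕ} [hp : Fact p.Prime] (f : ℕ) {E : Type} [Field E] [CharP E p]

/-- The field automorphism on `SL₂`. -/
def sig : Matrix.SpecialLinearGroup (Fin 2) E →* Matrix.SpecialLinearGroup (Fin 2) E :=
  Matrix.SpecialLinearGroup.map (iterateFrobenius E p f)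

lemma mul_sig_val (h : Matrix.SpecialLinearGroup (Fin 2) E) :
    (h * sig (p := p) f h).val = h.val * frm p E f h.val := rfl

lemma sig_val (h : Matrix.SpecialLinearGroup (Fin 2) E) :
    ((sig (p := p) f h : Matrix.SpecialLinearGroup (Fin 2) E) : Matrix (Fin 2) (Fin 2) E) =
      frm p E f (h : Matrix (Fin 2) (Fin 2) E) := rfl

local notation "hm" => Twist.hom (twTwo p f) (E := E)

variable (hs : ∀ x : E, (x ^ p ^ f) ^ p ^ f = x)

include hs in
lemma sUnit_mul (h : Matrix.SpecialLinearGroup (Fin 2) E) :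
    sUnit E * hm h = hm (sig (p := p) f h) * sUnit E := by
  refine Units.ext ?_
  rw [Units.val_mul, Units.val_mul, Twist.hom_val, Twist.hom_val, sig_val]
  ext ⟨a, b⟩ ⟨c, d⟩
  rw [show ((sUnit E : (Matrix I2 I2 E)ˣ) : Matrix I2 I2 E) = sMat E from rfl, sMat_mul, mul_sMat]
  simp only [twTwo, Prod.swap_prod_mk, Matrix.kroneckerMap_apply, frm_apply, hs]
  ring

include hs in
lemma mul_self_outer (h : Matrix.SpecialLinearGroup (Fin 2) E) :
    (hm h * sUnit E) ^ 2 = hm (h * sig (p := p) f h) := by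
  have hs2 : sUnit E * sUnit E = 1 := Units.ext (sMat_sq E)
  rw [pow_two, mul_assoc, ← mul_assoc (sUnit E) (hm h), sUnit_mul f hs, mul_assoc, hs2, mul_one, map_mul]

/-- `SL₂(q²).⟨σ⟩` on `W^(q) ⊗ W`. -/
def outGrp : Subgroup (Matrix I2 I2 E)ˣ where
  carrier := {g | ∃ h, g = hm h ∨ g = hm h * sUnit E}
  one_mem' := ⟨1, Or.inl (map_one _).symm⟩
  mul_mem' := by
    have hs2 : sUnit E * sUnit E = 1 := Units.ext (sMat_sq E)
    rintro g g' ⟨h, rfl | rfl⟩ ⟨h', rfl | rfl⟩
    · exact ⟨h * h', Or.inl (map_mul _ _ _).symm⟩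
    · exact ⟨h * h', Or.inr (by rw [map_mul, mul_assoc])⟩
    · exact ⟨h * sig (p := p) f h', Or.inr (by rw [mul_assoc, sUnit_mul f hs, ← mul_assoc, map_mul])⟩
    · exact ⟨h * sig (p := p) f h', Or.inl (by
        rw [mul_assoc, ← mul_assoc (sUnit E), sUnit_mul f hs, mul_assoc, hs2, mul_one, map_mul])⟩
  inv_mem' := by
    have hs2 : (sUnit E)⁻¹ = sUnit E := inv_eq_of_mul_eq_one_left (Units.ext (sMat_sq E))
    rintro g ⟨h, rfl | rfl⟩
    · exact ⟨h⁻¹, Or.inl (map_inv _ _).symm⟩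
    · exact ⟨sig (p := p) f h⁻¹, Or.inr (by rw [_root_.mul_inv_rev, hs2, ← map_inv, sUnit_mul f hs])⟩

lemma sUnit_ne (h : Matrix.SpecialLinearGroup (Fin 2) E) : sUnit E ≠ hm h := by
  intro e
  have e' : ∀ i j, sMat E i j = (twTwo p f).T E (h : Matrix (Fin 2) (Fin 2) E) i j := fun i j => by
    have := congrArg (fun u : (Matrix I2 I2 E)ˣ => (u : Matrix I2 I2 E) i j) e
    exact this
  have h1 := e' (0, 0) (0, 0)
  have h2 := e' (0, 0) (0, 1)
  have h3 := e' (0, 1) (1, 0)
  simp [twTwo, sMat, frm_apply] at h1 h2 h3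
  rcases h2 with h2 | h2
  · rw [h2.1, zero_pow (pow_ne_zero _ hp.out.ne_zero), zero_mul] at h1
    exact neg_ne_zero.2 one_ne_zero h1
  · rw [h2, zero_pow (pow_ne_zero _ hp.out.ne_zero), zero_mul] at h3
    exact neg_ne_zero.2 one_ne_zero h3

variable [Fintype E] {q : ℕ} (hq : q = p ^ f) (hf : 1 ≤ f) (hE : Fintype.card E = q ^ 2) (hp5 : 5 ≤ p)

include hq hE in
lemma frob_frob (x : E) : (x ^ p ^ f) ^ p ^ f = x := by
  rw [← pow_mul, ← hq, ← pow_two, ← hE, FiniteField.pow_card]

include hp5 in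
lemma nilp_cube {h : Matrix.SpecialLinearGroup (Fin 2) E} {c : E} (hc : c = 1 ∨ c = -1)
    (hn : ((h : Matrix (Fin 2) (Fin 2) E) - c • (1 : Matrix (Fin 2) (Fin 2) E)) ^ 2 = 0) :
    ((hm h : (Matrix I2 I2 E)ˣ).val - 1) ^ (p - 1) = 0 := by
  have hcc : c * c = 1 := by rcases hc with rfl | rfl <;> simp
  obtain ⟨M, hMdef⟩ : ∃ M, c • ((h : Matrix (Fin 2) (Fin 2) E) - c • (1 : Matrix (Fin 2) (Fin 2) E)) = M := ⟨_, rfl⟩
  have hM : M * M = 0 := by
    rw [← hMdef, smul_mul_smul_comm, ← pow_two ((h : Matrix (Fin 2) (Fin 2) E) - _), hn, smul_zero]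
  have hT : (twTwo p f).T E (h : Matrix (Fin 2) (Fin 2) E) = (twTwo p f).T E (1 + M) := by
    have : (h : Matrix (Fin 2) (Fin 2) E) = c • (1 + M) := by
      rw [← hMdef, smul_add, smul_smul, hcc, one_smul]; abel
    rw [this]
    rcases hc with rfl | rfl
    · rw [one_smul]
    · rw [neg_one_smul, (twTwo p f).T_neg]
  refine pow_eq_zero_of_le (show 3 ≤ p - 1 by omega) ?_
  rw [Twist.hom_val, hT]
  have hfM : frm p E f M * frm p E f M = 0 := by
    rw [← frm_mul, hM, frm, Matrix.map_zero _ (map_zero _)]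
  have hexp : (twTwo p f).T E (1 + M) - 1 =
      frm p E f M ⊗ₖ (1 : Matrix (Fin 2) (Fin 2) E) + (1 : Matrix (Fin 2) (Fin 2) E) ⊗ₖ M +
      (frm p E f M ⊗ₖ (1 : Matrix (Fin 2) (Fin 2) E)) * ((1 : Matrix (Fin 2) (Fin 2) E) ⊗ₖ M) := by
    have hadd : frm p E f (1 + M) = 1 + frm p E f M := by
      rw [frm, Matrix.map_add _ (map_add _), Matrix.map_one _ (map_zero _) (map_one _)]; rfl
    show frm p E f (1 + M) ⊗ₖ (1 + M) - 1 = _
    rw [hadd, add_kronecker, kronecker_add, kronecker_add, one_kronecker_one, ← mul_kronecker_mul, mul_one, one_mul]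
    abel
  rw [hexp]
  refine cube_zero _ _ ?_ ?_ ?_
  · rw [← mul_kronecker_mul, hfM, zero_kronecker]
  · rw [← mul_kronecker_mul, hM, kronecker_zero]
  · simp only [← mul_kronecker_mul, mul_one, one_mul]

include hq hf hE hp5 in
theorem outer_cases (k : ℕ) (z : ModExt (outGrp f (frob_frob (E := E) f hq hE)) k) :
    IsOrd q p (orderOf z) := by
  have hp2 : p ≠ 2 := by omega
  obtain ⟨hq2, -, hodd, -⟩ := q_facts (p := p) hq hf
  obtain ⟨hqodd, hdl⟩ := hodd hp2
  have hsq : ∀ x : E, (x ^ p ^ f) ^ p ^ f = x := frob_frob f hq hE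
  have h2q : 2 ∣ q - 1 := (Nat.Odd.sub_odd hqodd odd_one).two_dvd
  have h2q' : 2 ∣ q + 1 := (hqodd.add_one).two_dvd
  obtain ⟨h, hh⟩ := z.right.2
  rcases hh with hh | hh
  · rcases inner_cases (twTwo p f) hq hf hE (twTwo_good hq hf) z h hh with hord | ⟨hr, c, hc, hn⟩
    · exact hord
    · have hz : z ^ p = 1 := by
        refine pow_eq_one_of_sum z hr ?_
        rw [geom_sum_char p (topMat z)]
        rw [show topMat z = (hm h : (Matrix I2 I2 E)ˣ).val from congrArg Units.val hh]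
        exact nilp_cube f hp5 hc hn
      exact Or.inr (Or.inr (Or.inl ((orderOf_dvd_of_pow_eq_one hz).trans (dvd_mul_right _ _))))
  · obtain ⟨g, hg⟩ : ∃ g, hm h * sUnit E = g := ⟨_, rfl⟩
    obtain ⟨N, hN⟩ : ∃ N, h * sig (p := p) f h = N := ⟨_, rfl⟩
    have hg2 : g ^ 2 = hm N := by rw [← hg, mul_self_outer f hsq, hN]
    rw [hg] at hh
    have hpow : ∀ n, g ^ n = 1 → z.right ^ n = 1 := fun n hn =>
      Subtype.ext (by rw [SubmonoidClass.coe_pow, hh, hn]; rfl)
    have ht : (N : Matrix (Fin 2) (Fin 2) E).trace ^ q = (N : Matrix (Fin 2) (Fin 2) E).trace := by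
      have e : (N : Matrix (Fin 2) (Fin 2) E) =
          (h : Matrix (Fin 2) (Fin 2) E) * frm p E f (h : Matrix (Fin 2) (Fin 2) E) := by
        rw [← hN, Matrix.SpecialLinearGroup.coe_mul, sig_val]
      rw [e, hq]
      simp only [Matrix.trace_fin_two, Matrix.mul_apply, Fin.sum_univ_two, frm_apply, add_pow_char_pow, mul_pow, hsq]
      ring
    haveI : CharP (AlgebraicClosure E) p :=
      charP_of_injective_algebraMap (algebraMap E (AlgebraicClosure E)).injective p
    rcases two_cases N (r := q) hq2 2 (Or.inr rfl) h2q h2q' ht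
        (fun a b => by rw [hq]; exact add_pow_char_pow a b p f) with ⟨c, hc, hn⟩ | ⟨-, c, hc, hpw⟩
    · have hgp : hm N ^ p = 1 := by
        refine Twist.hom_pow_eq_one _ (pm_pow hc p) ?_
        have := pow_of_nilp _ p c (j := 1) hn (by rw [pow_one]; omega)
        simpa using this
      have hr : z.right ^ (2 * p) = 1 := hpow _ (by rw [pow_mul, hg2, hgp])
      have hz : z ^ (2 * p) = 1 := by
        refine pow_eq_one_of_sum z hr ?_
        rw [geom_sum_two_mul, geom_sum_char p (topMat z ^ 2)]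
        rw [show topMat z ^ 2 = (hm N : (Matrix I2 I2 E)ˣ).val by
          rw [← hg2, Units.val_pow_eq_pow_val]; exact congrArg (fun u : (Matrix I2 I2 E)ˣ => (u : Matrix I2 I2 E) ^ 2) hh]
        rw [nilp_cube f hp5 hc hn, mul_zero]
      refine Or.inr (Or.inr (Or.inl ((orderOf_dvd_of_pow_eq_one hz).trans ?_)))
      rw [mul_comm]
      exact mul_dvd_mul_left _ h2q
    · rcases hpw with e | e
      · refine Or.inr (Or.inr (Or.inl (orderOf_dvd_of_pow_eq_one (pow_mul_eq_one p z (hpow _ ?_)))))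
        rw [show q - 1 = 2 * ((q - 1) / 2) by omega, pow_mul, hg2]
        exact Twist.hom_pow_eq_one _ hc e
      · refine Or.inr (Or.inr (Or.inr (Or.inl (orderOf_dvd_of_pow_eq_one (pow_mul_eq_one p z (hpow _ ?_))))))
        rw [show q + 1 = 2 * ((q + 1) / 2) by omega, pow_mul, hg2]
        exact Twist.hom_pow_eq_one _ hc e

include hq hf in
lemma outer_order {g : (Matrix I2 I2 E)ˣ} {h : Matrix.SpecialLinearGroup (Fin 2) E} {μ : Eˣ} {N : ℕ}
    (hg : hm h * sUnit E = g) (hg2 : g ^ 2 = hm (diagSL μ)) (hN : 2 ∣ N)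
    (hμ : (μ : E) ^ N = 1) (hμ' : ∀ m : ℕ, (μ : E) ^ (2 * m) = 1 → N ∣ 2 * m) : orderOf g = N := by
  have hval : ∀ m : ℕ, (hm (diagSL μ) ^ m : (Matrix I2 I2 E)ˣ).val =
      diagonal ((twTwo p f).wt E ![(μ : E) ^ m, ((μ : E) ^ m)⁻¹]) := by
    intro m
    rw [Units.val_pow_eq_pow_val, Twist.hom_val, ← Twist.T_pow]
    show (twTwo p f).T E (diagonal ![(μ : E), ((μ⁻¹ : Eˣ) : E)] ^ m) = _
    rw [diagonal_pow, Twist.T_diag]
    congr 2
    ext j
    fin_cases j <;> simp [inv_pow]
  refine Nat.dvd_antisymm (orderOf_dvd_of_pow_eq_one ?_) ?_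
  · obtain ⟨M, rfl⟩ := hN
    rw [pow_mul, hg2]
    refine Units.ext ?_
    rw [hval, Units.val_one, ← Twist.T_diag]
    have hpm : (μ : E) ^ M = 1 ∨ (μ : E) ^ M = -1 := by
      rw [← sq_eq_one_iff, ← pow_mul, mul_comm, hμ]
    have : diagonal ![(μ : E) ^ M, ((μ : E) ^ M)⁻¹] = ((μ : E) ^ M) • (1 : Matrix (Fin 2) (Fin 2) E) := by
      ext a b
      rcases hpm with h | h <;> fin_cases a <;> fin_cases b <;> simp [h, inv_neg]
    rw [this, Twist.T_scalar (twTwo p f) E hpm]
  · have hn := pow_orderOf_eq_one g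
    rcases Nat.even_or_odd' (orderOf g) with ⟨m, hm' | hm'⟩
    · rw [hm', pow_mul, hg2] at hn
      have hn' := congrArg Units.val hn
      rw [hval, Units.val_one] at hn'
      have h2 := (twTwo_good hq hf).1 E ((μ : E) ^ m) (pow_ne_zero _ μ.ne_zero)
        (fun i => by simpa using congrFun (congrFun hn' i) i)
      rw [← pow_mul, mul_comm] at h2
      rw [hm']
      exact hμ' m h2
    · rw [hm', pow_succ, pow_mul, hg2, ← hg, ← map_pow, ← mul_assoc, ← map_mul] at hn
      refine absurd ?_ (sUnit_ne f ((diagSL μ ^ m * h)⁻¹))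
      rw [map_inv]
      exact (inv_eq_of_mul_eq_one_right hn).symm

include hq hf hE hp5 in
theorem range_five (k : ℕ) (hk : 0 < k) :
    Set.range (orderOf : ModExt (outGrp f (frob_frob (E := E) f hq hE)) k → ℕ) = {d | IsOrd q p d} := by
  ext d
  refine ⟨?_, ?_⟩
  · rintro ⟨z, rfl⟩
    exact outer_cases f hq hf hE hp5 k z
  · intro hd
    have hp2 : p ≠ 2 := by omega
    obtain ⟨hq2, hpq, hodd, -⟩ := q_facts (p := p) hq hf
    obtain ⟨hqodd, hdl⟩ := hodd hp2
    have hsq : ∀ x : E, (x ^ p ^ f) ^ p ^ f = x := frob_frob f hq hE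
    have h2q : 2 ∣ q - 1 := (Nat.Odd.sub_odd hqodd odd_one).two_dvd
    have h2q' : 2 ∣ q + 1 := (hqodd.add_one).two_dvd
    haveI : Finite (ModExt (outGrp f (frob_frob (E := E) f hq hE)) k) :=
      Finite.of_equiv _ SemidirectProduct.equivProd.symm
    have get : ∀ M, (∃ z : ModExt (outGrp f (frob_frob (E := E) f hq hE)) k, orderOf z = M) → d ∣ M →
        d ∈ Set.range (orderOf : ModExt (outGrp f (frob_frob (E := E) f hq hE)) k → ℕ) := by
      rintro M ⟨z, rfl⟩ hdM
      exact ⟨z ^ (orderOf z / d), orderOf_pow_orderOf_div (orderOf_pos z).ne' hdM⟩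
    have half : ∀ N, N = q ^ 2 - 1 ∨ N = q ^ 2 + 1 →
        ∃ z : ModExt (outGrp f (frob_frob (E := E) f hq hE)) k, orderOf z = N / dl q := by
      intro N hN
      obtain ⟨h, hh⟩ := exists_half_hom (twTwo p f) hq hf hE (twTwo_good hq hf) N hN
      obtain ⟨z, hz⟩ := exists_inr (k := k)
        (⟨hm h, h, Or.inl rfl⟩ : outGrp f (frob_frob (E := E) f hq hE))
      exact ⟨z, by rw [hz, ← Subgroup.orderOf_coe, hh]⟩
    have mk : ∀ (h : Matrix.SpecialLinearGroup (Fin 2) E) (μ : Eˣ) (N : ℕ) (v : I2 → E), v ≠ 0 →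
        (hm h * sUnit E) ^ 2 = hm (diagSL μ) → 2 ∣ N → (μ : E) ^ N = 1 →
        (∀ m : ℕ, (μ : E) ^ (2 * m) = 1 → N ∣ 2 * m) → ¬ p ∣ N →
        ((twTwo p f).T E (h : Matrix (Fin 2) (Fin 2) E) * sMat E) *ᵥ v = v →
        ∃ z : ModExt (outGrp f (frob_frob (E := E) f hq hE)) k, orderOf z = p * N := by
      intro h μ N v hv hg2 hN hμ hμ' hpN hfix
      have e : orderOf (⟨hm h * sUnit E, h, Or.inr rfl⟩ : outGrp f (frob_frob (E := E) f hq hE)) = N := by
        rw [← Subgroup.orderOf_coe]; exact outer_order f hq hf rfl hg2 hN hμ hμ'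
      obtain ⟨z, hz⟩ := exists_mul_char (k := k) p hk
        (⟨hm h * sUnit E, h, Or.inr rfl⟩ : outGrp f (frob_frob (E := E) f hq hE)) v hv
        (by simpa [Twist.hom_val, sUnit] using hfix) (by rw [e]; exact hpN)
      exact ⟨z, by rw [hz, e]⟩
    obtain ⟨l, hl⟩ := exists_unit (F := E) (q ^ 2 - 1) (by rw [hE])
    have hprod : q ^ 2 - 1 = (q + 1) * (q - 1) := by
      have e := Nat.sq_sub_sq q 1
      rwa [one_pow] at e
    have hl1 : ∀ m, (l : E) ^ m = 1 → (q + 1) * (q - 1) ∣ m := fun m e => by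
      rw [← hprod, ← hl]; exact orderOf_dvd_of_pow_eq_one (Units.ext (by rwa [Units.val_pow_eq_pow_val, Units.val_one]))
    have hl2 : (l : E) ^ ((q + 1) * (q - 1)) = 1 := by
      rw [← hprod, ← hl, ← Units.val_pow_eq_pow_val, pow_orderOf_eq_one, Units.val_one]
    have hl0 : (l : E) ≠ 0 := l.ne_zero
    have hnp1 : ¬ p ∣ q - 1 := fun h => by
      have := Nat.dvd_sub hpq h
      rw [show q - (q - 1) = 1 by omega] at this
      exact hp.out.not_dvd_one this
    have hnp2 : ¬ p ∣ q + 1 := fun h => hp.out.not_dvd_one ((Nat.dvd_add_right hpq).1 h)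
    have minus : ∃ z : ModExt (outGrp f (frob_frob (E := E) f hq hE)) k, orderOf z = p * (q - 1) := by
      refine mk (diagSL l) (l ^ (q + 1)) (q - 1) (fun i => if i = (0, 1) then 1 else if i = (1, 0) then -((l : E) ^ (q - 1))⁻¹ else 0)
        (fun h => by have := congrFun h (0, 1); simp at this) ?_ h2q ?_ ?_ hnp1 ?_
      · rw [mul_self_outer f hsq]
        congr 1
        apply Subtype.ext
        rw [mul_sig_val]
        ext a b
        fin_cases a <;> fin_cases b <;>
          simp [Matrix.mul_apply, Fin.sum_univ_two, sig_val, frm_apply, diagSL, ← hq, pow_succ, mul_comm,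
            zero_pow (show q ≠ 0 by omega)]
      · rw [Units.val_pow_eq_pow_val, ← pow_mul, hl2]
      · intro m e
        rw [Units.val_pow_eq_pow_val, ← pow_mul] at e
        exact Nat.dvd_of_mul_dvd_mul_left (by omega) (hl1 _ e)
      · have e1 : (l : E) ^ q = (l : E) ^ (q - 1) * l := by rw [← pow_succ, Nat.sub_add_cancel (by omega)]
        rw [← Matrix.mulVec_mulVec, show ((diagSL l : Matrix.SpecialLinearGroup (Fin 2) E) : Matrix (Fin 2) (Fin 2) E) =
          diagonal ![(l : E), ((l⁻¹ : Eˣ) : E)] from rfl, Twist.T_diag]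
        funext i
        rw [Matrix.mulVec_diagonal, sMat_vec]
        obtain ⟨a, b⟩ := i
        fin_cases a <;> fin_cases b <;> simp [twTwo, ← hq, e1] <;> field_simp
    have plus : ∃ z : ModExt (outGrp f (frob_frob (E := E) f hq hE)) k, orderOf z = p * (q + 1) := by
      let h : Matrix.SpecialLinearGroup (Fin 2) E :=
        ⟨!![0, (l : E); -((l : E))⁻¹, 0], by simp [Matrix.det_fin_two]⟩
      refine mk h (-(l ^ (q - 1))⁻¹) (q + 1) (fun i => if i = (1, 1) then 1 else if i = (0, 0) then -((l : E) ^ (q + 1)) else 0)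
        (fun e => by have := congrFun e (1, 1); simp at this) ?_ h2q' ?_ ?_ hnp2 ?_
      · rw [mul_self_outer f hsq]
        congr 1
        apply Subtype.ext
        rw [mul_sig_val]
        ext a b
        have e1 : (l : E) ^ q = (l : E) ^ (q - 1) * l := by rw [← pow_succ, Nat.sub_add_cancel (by omega)]
        fin_cases a <;> fin_cases b <;>
          simp [h, Matrix.mul_apply, Fin.sum_univ_two, sig_val, frm_apply, diagSL, ← hq, hqodd.neg_pow, e1,
            zero_pow (show q ≠ 0 by omega)] <;> field_simp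
      · rw [Units.val_neg, Units.val_inv_eq_inv_val, Units.val_pow_eq_pow_val, hqodd.add_one.neg_pow, inv_pow,
          ← pow_mul, mul_comm, hl2, inv_one]
      · intro m e
        rw [Units.val_neg, Units.val_inv_eq_inv_val, Units.val_pow_eq_pow_val, (even_two_mul m).neg_pow, inv_pow,
          ← pow_mul, inv_eq_one] at e
        have := hl1 _ e
        rw [mul_comm (q + 1)] at this
        exact Nat.dvd_of_mul_dvd_mul_left (by omega) this
      · rw [← Matrix.mulVec_mulVec]
        funext i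
        obtain ⟨a, b⟩ := i
        have hrw : ∀ j, (sMat E *ᵥ fun i : I2 => if i = (1, 1) then (1 : E) else if i = (0, 0) then -((l : E) ^ (q + 1)) else 0) j =
            -(if j.swap = (1, 1) then (1 : E) else if j.swap = (0, 0) then -((l : E) ^ (q + 1)) else 0) := fun j => sMat_vec _ j
        rw [Matrix.mulVec, dotProduct, Fintype.sum_prod_type]
        simp only [Fin.sum_univ_two, hrw, Prod.swap_prod_mk]
        fin_cases a <;> fin_cases b <;>
          simp [h, twTwo, frm_apply, ← hq, hqodd.neg_pow, zero_pow (show q ≠ 0 by omega), pow_succ] <;> field_simp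
    rcases hd with h | h | h | h | ⟨e, h⟩ | ⟨e, h⟩
    · exact get _ (half _ (Or.inl rfl)) h
    · exact get _ (half _ (Or.inr rfl)) h
    · exact get _ minus h
    · exact get _ plus h
    · omega
    · omega

end Cfsg.Agent.PSp4Spec
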