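import Cfsg.Agent.Lib.LinearBlock.SpecPSp

/-!
Arbitrarily large groups with element orders dividing `9`, `5` or `12`.
-/

set_option autoImplicit false
noncomputable section

namespace Cfsg.Agent.PSp4Spec

open Cfsg.Agent.LBSpecW

variable (K : Type) [Field K] [CharP K 3] (k : ℕ)

/-- The diagonal action on copies of `A`. -/
def powAct : C K →* MulAut (Fin k → A K) where
  toFun c := MulEquiv.piCongrRight fun _ => rho c
  map_one' := by refine MulEquiv.ext fun v => funext fun i => ?_; simp
  map_mul' c d := by refine MulEquiv.ext fun v => funext fun i => ?_; simp [MulAut.mul_apply]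

abbrev PowGrp := (Fin k → A K) ⋊[powAct K k] C K

/-- The projection to one copy. -/
def projGrp (i : Fin k) : PowGrp K k →* H K :=
  SemidirectProduct.map (Pi.evalMonoidHom (fun _ => A K) i) (MonoidHom.id _) (fun _ => rfl)

/-- The diagonal embedding. -/
def diagGrp : H K →* PowGrp K k :=
  SemidirectProduct.map (Pi.monoidHom fun _ => MonoidHom.id _) (MonoidHom.id _) (fun _ => rfl)

variable {K k}

lemma diagGrp_injective (hk : 0 < k) : Function.Injective (diagGrp K k) := fun a b h => by
  have := congrArg (projGrp K k ⟨0, hk⟩) h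
  exact this

lemma pow_one_of_proj (hk : 0 < k) {g : PowGrp K k} {N : ℕ} (h : ∀ i, (projGrp K k i g) ^ N = 1) : g ^ N = 1 := by
  have e : ∀ i, projGrp K k i (g ^ N) = 1 := fun i => by rw [map_pow, h i]
  refine SemidirectProduct.ext (funext fun i => congrArg SemidirectProduct.left (e i)) ?_
  exact (congrArg SemidirectProduct.right (e ⟨0, hk⟩) : _)

variable [Finite K] (hK : Nat.card K = 81)

include hK

lemma C_pow_twenty (c : C K) : c ^ 20 = 1 := by
  obtain ⟨u, τ⟩ := c
  obtain ⟨j, -, hj⟩ := aut_form hK τ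
  have hit : ∀ n t, (τ ^ n : RingAut K) t = t ^ 3 ^ (j * n) := by
    intro n
    induction n with
    | zero => intro t; simp
    | succ n ih => intro t; rw [pow_succ', RingAut.mul_apply, ih, hj, ← pow_mul, ← pow_add, Nat.mul_succ]
  have hτ : τ ^ 4 = 1 := by
    refine RingEquiv.ext fun t => ?_
    rw [hit]
    show t ^ 3 ^ (j * 4) = t
    have : ∀ i, t ^ 3 ^ (i * 4) = t := by
      intro i
      induction i with
      | zero => simp
      | succ i ih => rw [Nat.succ_mul, pow_add, pow_mul, ih, show (3 : ℕ) ^ 4 = 81 from rfl, pow81 hK]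
    exact this j
  obtain ⟨w, hw⟩ : ∃ w, (⟨u, τ⟩ : C K) ^ 4 = SemidirectProduct.inl w := ⟨((⟨u, τ⟩ : C K) ^ 4).left, by
    ext1
    · rfl
    · show SemidirectProduct.rightHom ((⟨u, τ⟩ : C K) ^ 4) = 1
      rw [map_pow]; exact hτ⟩
  rw [show 20 = 4 * 5 from rfl, pow_mul, hw, ← map_pow,
    show w ^ 5 = 1 from Subtype.ext ((mem_rootsOfUnity 5 _).1 w.2), map_one]

theorem pow_cases (hk : 0 < k) (g : PowGrp K k) : orderOf g ∣ 9 ∨ orderOf g ∣ 5 ∨ orderOf g ∣ 12 := by
  have hr : ∀ i, (projGrp K k i g).right = g.right := fun _ => rfl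
  have hdiv : ∀ i N, orderOf (projGrp K k i g) ∣ N → g.right ^ N = 1 := by
    intro i N h
    rw [← hr i, ← show ((projGrp K k i g) ^ N).right = (projGrp K k i g).right ^ N from
      map_pow SemidirectProduct.rightHom _ N, orderOf_dvd_iff_pow_eq_one.1 h]
    rfl
  have h20 := C_pow_twenty hK g.right
  by_cases h1 : g.right = 1
  · left
    refine orderOf_dvd_of_pow_eq_one (pow_one_of_proj hk fun i => ?_)
    have : projGrp K k i g = SemidirectProduct.inl (projGrp K k i g).left := by
      ext1
      · rfl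
      · exact (hr i).trans h1
    rw [this, ← map_pow, A.pow_nine, map_one]
  by_cases h5 : g.right ^ 4 = 1
  · right; right
    refine orderOf_dvd_of_pow_eq_one (pow_one_of_proj hk fun i => ?_)
    rcases order_cases hK (projGrp K k i g) with h | h | h
    · refine absurd ?_ h1
      have := (pow_gcd_eq_one (a := g.right) (m := 9) (n := 4)).2 ⟨hdiv i _ h, h5⟩
      simpa using this
    · refine absurd ?_ h1
      have := (pow_gcd_eq_one (a := g.right) (m := 5) (n := 4)).2 ⟨hdiv i _ h, h5⟩
      simpa using this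
    · exact orderOf_dvd_iff_pow_eq_one.1 h
  · right; left
    refine orderOf_dvd_of_pow_eq_one (pow_one_of_proj hk fun i => ?_)
    rcases order_cases hK (projGrp K k i g) with h | h | h
    · refine absurd ?_ h1
      have := (pow_gcd_eq_one (a := g.right) (m := 9) (n := 20)).2 ⟨hdiv i _ h, h20⟩
      simpa using this
    · exact orderOf_dvd_iff_pow_eq_one.1 h
    · refine absurd ?_ h5
      have := (pow_gcd_eq_one (a := g.right) (m := 12) (n := 20)).2 ⟨hdiv i _ h, h20⟩
      simpa using this

omit hK in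
lemma finite_A : Finite (A K) :=
  Finite.of_injective (fun x : A K => (x.a, x.b, x.p, x.q, x.r, x.s, x.w)) (by
    intro x y h; simp only [Prod.mk.injEq] at h; ext <;> simp [h])

omit hK in
lemma finite_pow : Finite (PowGrp K k) := by
  haveI := finite_A (K := K)
  haveI : Finite (RingAut K) := Finite.of_injective (fun τ : RingAut K => (τ : K → K)) DFunLike.coe_injective
  haveI : Finite (C K) := Finite.of_equiv _ SemidirectProduct.equivProd.symm
  exact Finite.of_equiv _ SemidirectProduct.equivProd.symm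

omit hK in
lemma card_pow_big : 2 ^ k ≤ Nat.card (PowGrp K k) := by
  haveI := finite_A (K := K)
  haveI : Finite (RingAut K) := Finite.of_injective (fun τ : RingAut K => (τ : K → K)) DFunLike.coe_injective
  haveI : Finite (C K) := Finite.of_equiv _ SemidirectProduct.equivProd.symm
  haveI : Nontrivial (A K) := ⟨⟨1, ⟨1, 0, 0, 0, 0, 0, 0⟩, by
    rw [A.one_def]; intro h; exact zero_ne_one (congrArg A.a h)⟩⟩
  rw [SemidirectProduct.card, Nat.card_fun, Nat.card_fin]
  exact (Nat.pow_le_pow_left Finite.one_lt_card k).trans (Nat.le_mul_of_pos_right _ Nat.card_pos)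

theorem range_pow (hk : 0 < k) : Set.range (orderOf : PowGrp K k → ℕ) = {n | n ∣ 9 ∨ n ∣ 5 ∨ n ∣ 12} := by
  obtain ⟨⟨a, ha⟩, ⟨b, hb⟩, ⟨c, hc⟩⟩ := order_exists hK
  refine range_eq (pow_cases hK hk) ⟨diagGrp K k a, ?_⟩ ⟨diagGrp K k b, ?_⟩ ⟨diagGrp K k c, ?_⟩ <;>
    rw [orderOf_injective _ (diagGrp_injective hk)] <;> assumption

end Cfsg.Agent.PSp4Spec
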