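import Cfsg.Agent.Lib.Isospectral.PSp4.Orders
import Cfsg.Agent.Lib.Isospectral.PSp4.Module

/-!
Twisted tensor modules of `SL₂(q²)` and the element orders of the extensions by them.
-/

set_option autoImplicit false
noncomputable section

namespace Cfsg.Agent.PSp4Spec

open Polynomial Matrix
open scoped Classical

/-- A natural family of representations of `SL₂`, trivial on `-1`, diagonal on diagonal matrices. -/
structure Twist (p : ℕ) (ι : Type) [Fintype ι] [DecidableEq ι] where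
  T : (K : Type) → [Field K] → [CharP K p] → Matrix (Fin 2) (Fin 2) K → Matrix ι ι K
  wt : (K : Type) → [Field K] → (Fin 2 → K) → ι → K
  T_one : ∀ (K : Type) [Field K] [CharP K p], T K 1 = 1
  T_mul : ∀ (K : Type) [Field K] [CharP K p] (A B : Matrix (Fin 2) (Fin 2) K), T K (A * B) = T K A * T K B
  T_neg : ∀ (K : Type) [Field K] [CharP K p] (A : Matrix (Fin 2) (Fin 2) K), T K (-A) = T K A
  T_map : ∀ (K L : Type) [Field K] [CharP K p] [Field L] [CharP L p] (ψ : K →+* L)
    (A : Matrix (Fin 2) (Fin 2) K), T L (A.map ψ) = (T K A).map ψ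
  T_diag : ∀ (K : Type) [Field K] [CharP K p] (d : Fin 2 → K), T K (diagonal d) = diagonal (wt K d)

/-- The weights separate `±1`, and the only eigenvalue one belongs to elements of order dividing `2(q ± 1)`. -/
def Twist.Good {p : ℕ} {ι : Type} [Fintype ι] [DecidableEq ι] (W : Twist p ι) (q : ℕ) : Prop :=
  (∀ (K : Type) [Field K] [CharP K p] (y : K), y ≠ 0 → (∀ i, W.wt K ![y, y⁻¹] i = 1) → y ^ 2 = 1) ∧
  (∀ (K : Type) [Field K] [CharP K p] (x : K), x ≠ 0 → x ≠ x⁻¹ →
    (x ^ (q ^ 2 - 1) = 1 ∨ x ^ (q ^ 2 + 1) = 1) → (∃ i, W.wt K ![x, x⁻¹] i = 1) →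
    x ^ (2 * (q - 1)) = 1 ∨ x ^ (2 * (q + 1)) = 1)

/-- Some weight is trivial on the elements of order `δ (q ± 1)`. -/
def Twist.Fixes {p : ℕ} {ι : Type} [Fintype ι] [DecidableEq ι] (W : Twist p ι) (q : ℕ) : Prop :=
  ∀ (K : Type) [Field K] [CharP K p] (x : K), x ≠ 0 →
    (x ^ (dl q * (q - 1)) = 1 ∨ x ^ (dl q * (q + 1)) = 1) → ∃ i, W.wt K ![x, x⁻¹] i = 1

theorem exists_conj {K : Type*} [Field K] {A : Matrix (Fin 2) (Fin 2) K} (hd : A.det = 1) {x : K}
    (hx : A.charpoly.IsRoot x) (hxx : x ≠ x⁻¹) :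
    ∃ P : (Matrix (Fin 2) (Fin 2) K)ˣ,
      A = (P : Matrix (Fin 2) (Fin 2) K) * diagonal ![x, x⁻¹] * ((P⁻¹ : (Matrix (Fin 2) (Fin 2) K)ˣ) : Matrix (Fin 2) (Fin 2) K) := by
  rw [IsRoot, Matrix.charpoly_fin_two, hd] at hx
  simp only [eval_add, eval_sub, eval_pow, eval_X, eval_mul, eval_C] at hx
  have hx0 : x ≠ 0 := by rintro rfl; simp at hx
  have hdiag : ∀ y : K, y ^ 2 - A.trace * y + 1 = 0 → ∃ v : Fin 2 → K, v ≠ 0 ∧ A *ᵥ v = y • v := by
    intro y hy
    have h0 : (A - y • (1 : Matrix (Fin 2) (Fin 2) K)).det = 0 := by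
      rw [Matrix.det_fin_two] at hd ⊢
      rw [Matrix.trace_fin_two] at hy
      simp [Matrix.sub_apply]
      linear_combination hy + hd
    obtain ⟨v, hv, hv'⟩ := Matrix.exists_mulVec_eq_zero_iff.2 h0
    refine ⟨v, hv, ?_⟩
    rw [Matrix.sub_mulVec, Matrix.smul_mulVec, Matrix.one_mulVec, sub_eq_zero] at hv'
    exact hv'
  obtain ⟨v, hv, hAv⟩ := hdiag x hx
  obtain ⟨w, hw, hAw⟩ := hdiag x⁻¹ (by field_simp; linear_combination hx)
  let P : Matrix (Fin 2) (Fin 2) K := !![v 0, w 0; v 1, w 1]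
  have hP : P.det ≠ 0 := by
    intro h0
    obtain ⟨c, hc, hc'⟩ := Matrix.exists_mulVec_eq_zero_iff.2 h0
    have e : c 0 • v + c 1 • w = 0 := by
      refine funext fun i => ?_
      have := congrFun hc' i
      fin_cases i <;> simp [P, Matrix.mulVec, dotProduct, Fin.sum_univ_two] at this ⊢ <;> linear_combination this
    have e' : (c 0 * x) • v + (c 1 * x⁻¹) • w = 0 := by
      have h := congrArg (A *ᵥ ·) e
      simpa [Matrix.mulVec_add, Matrix.mulVec_smul, hAv, hAw, smul_smul] using h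
    have e2 : (c 0 * (x - x⁻¹)) • v = 0 := by
      have h := e'
      rw [show c 1 * x⁻¹ = x⁻¹ * c 1 by ring, ← smul_smul x⁻¹, eq_neg_of_add_eq_zero_right e, smul_neg,
        smul_smul, ← sub_eq_add_neg, ← sub_smul] at h
      rwa [show c 0 * (x - x⁻¹) = c 0 * x - x⁻¹ * c 0 by ring]
    have hc0 : c 0 = 0 := by
      rcases smul_eq_zero.1 e2 with h | h
      · exact (mul_eq_zero.1 h).resolve_right (sub_ne_zero.2 hxx)
      · exact absurd h hv
    rw [hc0, zero_smul, zero_add] at e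
    refine hc (funext fun i => ?_)
    fin_cases i
    · exact hc0
    · exact (smul_eq_zero.1 e).resolve_right hw
  obtain ⟨Q, hQ⟩ := (Matrix.isUnit_iff_isUnit_det P).2 hP.isUnit
  refine ⟨Q, ?_⟩
  have h : A * P = P * diagonal ![x, x⁻¹] := by
    ext i j
    have h1 := congrFun hAv i
    have h2 := congrFun hAw i
    fin_cases j <;> fin_cases i <;>
      simp [P, Matrix.mul_apply, Matrix.mulVec, dotProduct, Fin.sum_univ_two] at h1 h2 ⊢ <;>
      first | linear_combination h1 | linear_combination h2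
  rw [hQ, ← h, ← hQ, mul_assoc, Units.mul_inv, mul_one]

namespace Twist

variable {p : ℕ} [Fact p.Prime] {ι : Type} [Fintype ι] [DecidableEq ι] (W : Twist p ι)
  {E : Type} [Field E] [CharP E p]

def monHom (K : Type) [Field K] [CharP K p] : Matrix (Fin 2) (Fin 2) K →* Matrix ι ι K where
  toFun := W.T K
  map_one' := W.T_one K
  map_mul' := W.T_mul K

lemma T_pow (K : Type) [Field K] [CharP K p] (A : Matrix (Fin 2) (Fin 2) K) (N : ℕ) :
    W.T K (A ^ N) = W.T K A ^ N := map_pow (W.monHom K) A N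

lemma T_scalar (K : Type) [Field K] [CharP K p] {c : K} (hc : c = 1 ∨ c = -1) :
    W.T K (c • (1 : Matrix (Fin 2) (Fin 2) K)) = 1 := by
  rcases hc with rfl | rfl
  · rw [one_smul, W.T_one]
  · rw [neg_one_smul, W.T_neg, W.T_one]

/-- The representation of `SL₂(E)`. -/
def hom : Matrix.SpecialLinearGroup (Fin 2) E →* (Matrix ι ι E)ˣ :=
  ((W.monHom E).comp
    ({ toFun := fun h => (h : Matrix (Fin 2) (Fin 2) E)
       map_one' := rfl
       map_mul' := fun _ _ => rfl } :
      Matrix.SpecialLinearGroup (Fin 2) E →* Matrix (Fin 2) (Fin 2) E)).toHomUnits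

lemma hom_val (h : Matrix.SpecialLinearGroup (Fin 2) E) :
    ((W.hom h : (Matrix ι ι E)ˣ) : Matrix ι ι E) = W.T E (h : Matrix (Fin 2) (Fin 2) E) := rfl

lemma hom_pow_eq_one {h : Matrix.SpecialLinearGroup (Fin 2) E} {N : ℕ} {c : E} (hc : c = 1 ∨ c = -1)
    (hh : (h : Matrix (Fin 2) (Fin 2) E) ^ N = c • (1 : Matrix (Fin 2) (Fin 2) E)) : W.hom h ^ N = 1 := by
  refine Units.ext ?_
  rw [Units.val_pow_eq_pow_val, hom_val, ← W.T_pow, hh, W.T_scalar E hc, Units.val_one]

variable {K : Type} [Field K] [CharP K p] (ψ : E →+* K) {A : Matrix (Fin 2) (Fin 2) E} (hA : A.det = 1)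
  {x : K} (hx : (A.map ψ).charpoly.IsRoot x) (hxx : x ≠ x⁻¹)

include hA hx hxx

lemma map_conj : ∃ P : (Matrix ι ι K)ˣ, ∀ N, (W.T E A).map ψ ^ N =
    (P : Matrix ι ι K) * diagonal (W.wt K ![x ^ N, (x ^ N)⁻¹]) * ((P⁻¹ : (Matrix ι ι K)ˣ) : Matrix ι ι K) := by
  have hd : (A.map ψ).det = 1 := by rw [← RingHom.mapMatrix_apply, ← RingHom.map_det, hA, map_one]
  obtain ⟨P, hP⟩ := exists_conj hd hx hxx
  refine ⟨Units.map (W.monHom K) P, fun N => ?_⟩
  rw [← W.T_map E K ψ, ← W.T_pow, hP]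
  have hN : ((P : Matrix (Fin 2) (Fin 2) K) * diagonal ![x, x⁻¹] * ((P⁻¹ : (Matrix (Fin 2) (Fin 2) K)ˣ) : Matrix (Fin 2) (Fin 2) K)) ^ N =
      (P : Matrix (Fin 2) (Fin 2) K) * diagonal ![x ^ N, (x ^ N)⁻¹] * ((P⁻¹ : (Matrix (Fin 2) (Fin 2) K)ˣ) : Matrix (Fin 2) (Fin 2) K) := by
    rw [Units.conj_pow, diagonal_pow]
    congr 3
    ext i
    fin_cases i <;> simp [inv_pow]
  rw [hN, W.T_mul, W.T_mul, W.T_diag]
  rfl

lemma wt_of_pow {N : ℕ} (hN : W.T E A ^ N = 1) (i : ι) : W.wt K ![x ^ N, (x ^ N)⁻¹] i = 1 := by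
  obtain ⟨P, hP⟩ := W.map_conj ψ hA hx hxx
  have h := hP N
  rw [← Matrix.map_pow, hN, Matrix.map_one _ (map_zero ψ) (map_one ψ)] at h
  have h' : diagonal (W.wt K ![x ^ N, (x ^ N)⁻¹]) = 1 := by
    calc diagonal (W.wt K ![x ^ N, (x ^ N)⁻¹])
        = ((P⁻¹ : (Matrix ι ι K)ˣ) : Matrix ι ι K) * ((P : Matrix ι ι K) * diagonal (W.wt K ![x ^ N, (x ^ N)⁻¹]) *
          ((P⁻¹ : (Matrix ι ι K)ˣ) : Matrix ι ι K)) * (P : Matrix ι ι K) := by
          simp [mul_assoc]
      _ = 1 := by rw [← h]; simp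
  have := congrFun (congrFun h' i) i
  simpa using this

lemma exists_wt_of_fixed (hd : (W.T E A - 1).det = 0) : ∃ i, W.wt K ![x, x⁻¹] i = 1 := by
  obtain ⟨P, hP⟩ := W.map_conj ψ hA hx hxx
  have h := hP 1
  rw [pow_one, pow_one] at h
  have h0 : ((W.T E A).map ψ - 1).det = 0 := by
    rw [← Matrix.map_one _ (map_zero ψ) (map_one ψ), ← Matrix.map_sub _ (map_sub ψ), ← RingHom.mapMatrix_apply,
      ← RingHom.map_det, hd, map_zero]
  rw [h, show (1 : Matrix ι ι K) = (P : Matrix ι ι K) * 1 * ((P⁻¹ : (Matrix ι ι K)ˣ) : Matrix ι ι K) by simp,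
    ← sub_mul, ← mul_sub, Matrix.det_units_conj, ← diagonal_one, diagonal_sub, det_diagonal] at h0
  obtain ⟨i, -, hi⟩ := Finset.prod_eq_zero_iff.1 h0
  exact ⟨i, sub_eq_zero.1 hi⟩

lemma pow_one_of_root {N : ℕ} (hN : x ^ N = 1 ∨ x ^ N = -1) : W.T E A ^ N = 1 := by
  obtain ⟨P, hP⟩ := W.map_conj ψ hA hx hxx
  apply Matrix.map_injective ψ.injective
  show (W.T E A ^ N).map ψ = (1 : Matrix ι ι E).map ψ
  rw [Matrix.map_pow, hP, Matrix.map_one _ (map_zero ψ) (map_one ψ), ← W.T_diag]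
  have : diagonal ![x ^ N, (x ^ N)⁻¹] = (x ^ N) • (1 : Matrix (Fin 2) (Fin 2) K) := by
    ext i j
    rcases hN with h | h <;> fin_cases i <;> fin_cases j <;> simp [h, inv_neg]
  rw [this, W.T_scalar K hN, mul_one, Units.mul_inv]

end Twist

variable {p : ℕ} [hp : Fact p.Prime] {ι : Type} [Fintype ι] [DecidableEq ι] (W : Twist p ι)
  {E : Type} [Field E] [Fintype E] [CharP E p] {q f : ℕ} (hq : q = p ^ f) (hf : 1 ≤ f)
  (hE : Fintype.card E = q ^ 2) (hW : W.Good q)

include hq hf in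
omit [Fintype ι] [DecidableEq ι] in
lemma q_facts : 2 ≤ q ∧ p ∣ q ∧ (p ≠ 2 → Odd q ∧ dl q = 2) ∧ (p = 2 → dl q = 1) := by
  subst hq
  have h2 := hp.out.two_le
  refine ⟨h2.trans (Nat.le_self_pow (by omega) p), dvd_pow_self p (by omega), fun h => ?_, fun h => ?_⟩
  · have hodd : Odd (p ^ f) := (hp.out.odd_of_ne_two h).pow
    exact ⟨hodd, Nat.gcd_eq_left (Nat.Odd.sub_odd hodd odd_one).two_dvd⟩
  · subst h
    exact Nat.Coprime.gcd_eq_one (Nat.coprime_two_left.2
      (Nat.Even.sub_odd (Nat.one_le_pow _ _ two_pos) (even_two.pow_of_ne_zero (by omega)) odd_one))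

include hq hf hE hW in
/-- The orders of elements over the image of `SL₂`. -/
theorem inner_cases {G : Subgroup (Matrix ι ι E)ˣ} {k : ℕ} (z : ModExt G k)
    (h : Matrix.SpecialLinearGroup (Fin 2) E) (hz : ((z.right : G) : (Matrix ι ι E)ˣ) = W.hom h) :
    IsOrd q p (orderOf z) ∨ (z.right ^ p = 1 ∧ ∃ c : E, (c = 1 ∨ c = -1) ∧
      ((h : Matrix (Fin 2) (Fin 2) E) - c • (1 : Matrix (Fin 2) (Fin 2) E)) ^ 2 = 0) := by
  obtain ⟨hq2, -, -, -⟩ := q_facts hq hf
  have hsq : 4 ≤ q ^ 2 := by nlinarith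
  have hp2 := hp.out.two_le
  have hpow : ∀ N, W.hom h ^ N = 1 → z.right ^ N = 1 := fun N hN =>
    Subtype.ext (by rw [SubmonoidClass.coe_pow, hz, hN]; rfl)
  haveI : CharP (AlgebraicClosure E) p :=
    charP_of_injective_algebraMap (algebraMap E (AlgebraicClosure E)).injective p
  have hfr : ∀ a b : AlgebraicClosure E, (a + b) ^ q ^ 2 = a ^ q ^ 2 + b ^ q ^ 2 := fun a b => by
    rw [hq, ← pow_mul]; exact add_pow_char_pow a b p (f * 2)
  rcases two_cases h (r := q ^ 2) (by omega) (dl q) (dl_cases q)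
      (by rw [← dl_sq q (by omega)]; exact dl_dvd_sub _)
      (by rw [← dl_sq q (by omega)]; exact dl_dvd_add (by omega))
      (by rw [← hE]; exact FiniteField.pow_card _) hfr with ⟨c, hc, hn⟩ | ⟨⟨x, hx, hxx, hxr⟩, c, hc, hpw⟩
  · right
    refine ⟨hpow p (W.hom_pow_eq_one (pm_pow hc p) ?_), c, hc, hn⟩
    have := pow_of_nilp _ p c (j := 1) hn (by rw [pow_one]; exact hp2)
    simpa using this
  · left
    by_cases hd : (topMat z - 1).det = 0
    · -- a fixed vector
      have hroot : ((h : Matrix (Fin 2) (Fin 2) E).map (algebraMap E (AlgebraicClosure E))).charpoly.IsRoot x :=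
        (mem_roots (Matrix.charpoly_monic _).ne_zero).1 hx
      have hx0 : x ≠ 0 := ne_zero_of_eig (by rw [h.2]; exact one_ne_zero) hx
      have hd' : (W.T E (h : Matrix (Fin 2) (Fin 2) E) - 1).det = 0 := by
        rw [← W.hom_val, ← hz]; exact hd
      have hfix := W.exists_wt_of_fixed (algebraMap E (AlgebraicClosure E)) h.2 hroot hxx hd'
      have key : ∀ N, x ^ (2 * N) = 1 → z ^ (p * N) = 1 := by
        intro N hN
        refine pow_mul_eq_one p z (hpow N (Units.ext ?_))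
        rw [Units.val_pow_eq_pow_val, W.hom_val, Units.val_one]
        refine W.pow_one_of_root (algebraMap E (AlgebraicClosure E)) h.2 hroot hxx ?_
        rw [← sq_eq_one_iff, ← pow_mul, mul_comm N 2, hN]
      rcases hW.2 (AlgebraicClosure E) x hx0 hxx hxr hfix with e | e
      · exact Or.inr (Or.inr (Or.inl (orderOf_dvd_of_pow_eq_one (key _ e))))
      · exact Or.inr (Or.inr (Or.inr (Or.inl (orderOf_dvd_of_pow_eq_one (key _ e)))))
    · rcases hpw with e | e
      · exact Or.inl (orderOf_dvd_of_pow_eq_one (pow_eq_one_of_free z (hpow _ (W.hom_pow_eq_one hc e)) hd))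
      · exact Or.inr (Or.inl (orderOf_dvd_of_pow_eq_one (pow_eq_one_of_free z (hpow _ (W.hom_pow_eq_one hc e)) hd)))

include hq hf hE hW in
/-- Elements of order `(q² ± 1)/δ` in the image. -/
theorem exists_half_hom (N : ℕ) (hN : N = q ^ 2 - 1 ∨ N = q ^ 2 + 1) :
    ∃ h : Matrix.SpecialLinearGroup (Fin 2) E, orderOf (W.hom h) = N / dl q := by
  obtain ⟨hq2, -, hodd, heven⟩ := q_facts hq hf
  have hsq : 4 ≤ q ^ 2 := by nlinarith
  have hdN : dl q ∣ N := by
    rw [← dl_sq q (by omega)]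
    rcases hN with rfl | rfl
    · exact dl_dvd_sub _
    · exact dl_dvd_add (by omega)
  have hNpos : 0 < N := by rcases hN with rfl | rfl <;> omega
  have hN3 : 2 < N := by rcases hN with rfl | rfl <;> omega
  have body : ∀ (h : Matrix.SpecialLinearGroup (Fin 2) E) (K : Type) [Field K] [CharP K p] (ψ : E →+* K) (y : Kˣ),
      ((h : Matrix (Fin 2) (Fin 2) E).map ψ).charpoly.IsRoot (y : K) → orderOf y = N →
      orderOf (W.hom h) = N / dl q := by
    intro h K _ _ ψ y hroot hy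
    have hyy : (y : K) ≠ (y : K)⁻¹ := by
      intro e
      have : y ^ 2 = 1 := Units.ext (by
        rw [Units.val_pow_eq_pow_val, pow_two, Units.val_one]; conv_lhs => arg 2; rw [e]
        exact mul_inv_cancel₀ y.ne_zero)
      have := Nat.le_of_dvd two_pos (hy ▸ orderOf_dvd_of_pow_eq_one this)
      omega
    refine Nat.dvd_antisymm (orderOf_dvd_of_pow_eq_one (Units.ext ?_)) ?_
    · rw [Units.val_pow_eq_pow_val, W.hom_val, Units.val_one]
      refine W.pow_one_of_root ψ h.2 hroot hyy ?_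
      exact pow_div_sq (dl_cases q) hdN (by rw [← Units.val_pow_eq_pow_val, ← hy, pow_orderOf_eq_one, Units.val_one])
    · set n := orderOf (W.hom h)
      have hn := congrArg Units.val (pow_orderOf_eq_one (W.hom h))
      rw [Units.val_pow_eq_pow_val, W.hom_val, Units.val_one] at hn
      have h2 := hW.1 K ((y : K) ^ n) (pow_ne_zero _ y.ne_zero) (W.wt_of_pow ψ h.2 hroot hyy hn)
      have hd : N ∣ n * 2 := hy ▸ orderOf_dvd_of_pow_eq_one (Units.ext (by
        rw [Units.val_pow_eq_pow_val, pow_mul, h2, Units.val_one]))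
      rcases dl_cases q with e | e
      · rw [e, Nat.div_one]
        have hp' : p = 2 := by
          by_contra hne
          rw [(hodd hne).2] at e; omega
        have hev : Even (q ^ 2) := by
          subst hp'; subst hq
          exact (even_two.pow_of_ne_zero (by omega)).pow_of_ne_zero two_ne_zero
        have hNodd : Odd N := by
          rcases hN with rfl | rfl
          · exact Nat.Even.sub_odd (by omega) hev odd_one
          · exact hev.add_one
        exact (Nat.coprime_two_right.2 hNodd).dvd_of_dvd_mul_right hd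
      · refine Nat.dvd_of_mul_dvd_mul_right (by norm_num : 0 < 2) ?_
        rw [e] at hdN ⊢
        rwa [Nat.div_mul_cancel hdN]
  rcases hN with hN | hN
  · obtain ⟨x, hx⟩ := exists_unit (F := E) N (by rw [hE, hN])
    refine ⟨diagSL x, body _ E (RingHom.id E) x ?_ hx⟩
    show ((diagonal ![(x : E), ((x⁻¹ : Eˣ) : E)]).map id).charpoly.IsRoot (x : E)
    rw [Matrix.map_id, Matrix.charpoly_diagonal]
    simp [IsRoot, Fin.prod_univ_two]
  · obtain ⟨L, _, _, y, h, hy, -, hroot⟩ := exists_nonsplit (F := E) p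
    haveI : CharP L p := charP_of_injective_algebraMap (algebraMap E L).injective p
    exact ⟨h, body h L (algebraMap E L) y hroot (by rw [hy, hE, hN])⟩

include hq hf hE hW in
/-- Elements with a fixed vector. -/
theorem exists_fixed_hom (hWf : W.Fixes q) (N : ℕ) (hN : N = q - 1 ∨ N = q + 1) :
    ∃ (h : Matrix.SpecialLinearGroup (Fin 2) E) (v : ι → E), v ≠ 0 ∧ orderOf (W.hom h) = N ∧
      ((W.hom h : (Matrix ι ι E)ˣ) : Matrix ι ι E) *ᵥ v = v ∧ ¬ p ∣ N := by
  obtain ⟨hq2, hpq, hodd, heven⟩ := q_facts hq hf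
  have hprod : q ^ 2 - 1 = (q - 1) * (q + 1) := by
    have e := Nat.sq_sub_sq q 1
    rw [one_pow] at e
    rw [e, mul_comm]
  obtain ⟨x, hx⟩ := exists_unit (F := E) (dl q * N) (by
    rw [hE, hprod]
    rcases hN with rfl | rfl
    · rw [mul_comm]; exact mul_dvd_mul_left _ (dl_dvd_add (by omega))
    · exact mul_dvd_mul_right (dl_dvd_sub q) _)
  have hxN : (x : E) ^ (dl q * N) = 1 := by
    rw [← hx, ← Units.val_pow_eq_pow_val, pow_orderOf_eq_one, Units.val_one]
  obtain ⟨i, hi⟩ := hWf E (x : E) x.ne_zero (by rcases hN with rfl | rfl; exacts [Or.inl hxN, Or.inr hxN])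
  have hval : ∀ n : ℕ, ((W.hom (diagSL x) ^ n : (Matrix ι ι E)ˣ) : Matrix ι ι E) =
      diagonal (W.wt E ![(x : E) ^ n, ((x : E) ^ n)⁻¹]) := by
    intro n
    rw [Units.val_pow_eq_pow_val, W.hom_val, ← W.T_pow]
    show W.T E (diagonal ![(x : E), ((x⁻¹ : Eˣ) : E)] ^ n) = _
    rw [diagonal_pow, W.T_diag]
    congr 2
    ext j
    fin_cases j <;> simp [inv_pow]
  have hnp : ¬ p ∣ N := by
    intro h
    have h1p : p ∣ 1 := by
      rcases hN with rfl | rfl
      · have := Nat.dvd_sub hpq h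
        rwa [show q - (q - 1) = 1 by omega] at this
      · exact (Nat.dvd_add_right hpq).1 h
    exact hp.out.not_dvd_one h1p
  refine ⟨diagSL x, Pi.single i 1, by simp, Nat.dvd_antisymm ?_ ?_, ?_, hnp⟩
  · refine orderOf_dvd_of_pow_eq_one (Units.ext ?_)
    rw [hval, Units.val_one, ← W.T_diag]
    have hpm : (x : E) ^ N = 1 ∨ (x : E) ^ N = -1 := by
      have := pow_div_sq (K := E) (x := (x : E)) (dl_cases q) (dvd_mul_right (dl q) N) hxN
      rwa [Nat.mul_div_cancel_left _ (by rcases dl_cases q with h | h <;> omega)] at this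
    have : diagonal ![(x : E) ^ N, ((x : E) ^ N)⁻¹] = ((x : E) ^ N) • (1 : Matrix (Fin 2) (Fin 2) E) := by
      ext a b
      rcases hpm with h | h <;> fin_cases a <;> fin_cases b <;> simp [h, inv_neg]
    rw [this, W.T_scalar E hpm]
  · set n := orderOf (W.hom (diagSL x))
    have hn := congrArg Units.val (pow_orderOf_eq_one (W.hom (diagSL x)))
    rw [hval, Units.val_one] at hn
    have h2 := hW.1 E ((x : E) ^ n) (pow_ne_zero _ x.ne_zero) (fun j => by simpa using congrFun (congrFun hn j) j)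
    have hd : dl q * N ∣ n * 2 := hx ▸ orderOf_dvd_of_pow_eq_one (Units.ext (by
      rw [Units.val_pow_eq_pow_val, pow_mul, h2, Units.val_one]))
    rcases dl_cases q with e | e
    · rw [e, one_mul] at hd
      have hp' : p = 2 := by
        by_contra hne
        rw [(hodd hne).2] at e; omega
      have hev : Even q := by
        subst hp'; subst hq
        exact even_two.pow_of_ne_zero (by omega)
      have hNodd : Odd N := by
        rcases hN with rfl | rfl
        · exact Nat.Even.sub_odd (by omega) hev odd_one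
        · exact hev.add_one
      exact (Nat.coprime_two_right.2 hNodd).dvd_of_dvd_mul_right hd
    · rw [e, mul_comm n 2] at hd
      exact Nat.dvd_of_mul_dvd_mul_left two_pos hd
  · have h1 := hval 1
    rw [pow_one, pow_one] at h1
    rw [h1]
    ext j
    rw [Matrix.mulVec_diagonal]
    by_cases hj : j = i
    · subst hj; simp [hi]
    · simp [hj]

end Cfsg.Agent.PSp4Spec
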