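import Cfsg.Agent.Lib.Isospectral.PSp4.Twist
import Cfsg.Agent.Lib.Spectrum.Semidirect

/-!
Groups isospectral to `PSp₄(q)`: the three constructions.
-/

set_option autoImplicit false
noncomputable section

namespace Cfsg.Agent.PSp4Spec

open Matrix
open scoped Classical Kronecker

section Defs

variable (p f : ℕ) [hp : Fact p.Prime]

/-- The entrywise Frobenius power. -/
def frm (K : Type) [Field K] [CharP K p] (i : ℕ) (A : Matrix (Fin 2) (Fin 2) K) : Matrix (Fin 2) (Fin 2) K :=
  A.map (iterateFrobenius K p i)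

variable {p} in
lemma frm_apply (K : Type) [Field K] [CharP K p] (i : ℕ) (A : Matrix (Fin 2) (Fin 2) K) (a b : Fin 2) :
    frm p K i A a b = A a b ^ p ^ i := by
  simp [frm, iterateFrobenius_def]

lemma frm_one (K : Type) [Field K] [CharP K p] (i : ℕ) : frm p K i 1 = 1 :=
  Matrix.map_one _ (map_zero _) (map_one _)

lemma frm_mul (K : Type) [Field K] [CharP K p] (i : ℕ) (A B : Matrix (Fin 2) (Fin 2) K) :
    frm p K i (A * B) = frm p K i A * frm p K i B := Matrix.map_mul

lemma frm_neg (K : Type) [Field K] [CharP K p] (i : ℕ) (A : Matrix (Fin 2) (Fin 2) K) :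
    frm p K i (-A) = -frm p K i A := by
  ext a b; simp [frm]

lemma frm_map (K L : Type) [Field K] [CharP K p] [Field L] [CharP L p] (ψ : K →+* L) (i : ℕ)
    (A : Matrix (Fin 2) (Fin 2) K) : frm p L i (A.map ψ) = (frm p K i A).map ψ := by
  ext a b; simp [frm, iterateFrobenius_def]

lemma frm_diag (K : Type) [Field K] [CharP K p] (i : ℕ) (d : Fin 2 → K) :
    frm p K i (diagonal d) = diagonal fun a => d a ^ p ^ i := by
  rw [frm, diagonal_map (map_zero _)]
  rfl

lemma neg_kron {K : Type} [Field K] {ι κ : Type} (A : Matrix ι ι K) (B : Matrix κ κ K) :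
    (-A) ⊗ₖ (-B) = A ⊗ₖ B := by
  ext ⟨a, b⟩ ⟨c, d⟩; simp

lemma map_kron {K L : Type} [Field K] [Field L] {ι κ : Type} (ψ : K →+* L) (A : Matrix ι ι K) (B : Matrix κ κ K) :
    (A ⊗ₖ B).map ψ = A.map ψ ⊗ₖ B.map ψ := by
  ext ⟨a, b⟩ ⟨c, d⟩; simp

abbrev I2 := Fin 2 × Fin 2
abbrev I4T := (Fin 2 × Fin 2) × (Fin 2 × Fin 2)

/-- `W^(q) ⊗ W`. -/
def twTwo : Twist p I2 where
  T K _ _ A := frm p K f A ⊗ₖ A
  wt K _ d := fun i => d i.1 ^ p ^ f * d i.2
  T_one K _ _ := by simp only [frm_one, one_kronecker_one]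
  T_mul K _ _ A B := by simp only [frm_mul, mul_kronecker_mul]
  T_neg K _ _ A := by simp only [frm_neg, neg_kron]
  T_map K L _ _ _ _ ψ A := by simp only [frm_map, map_kron]
  T_diag K _ _ d := by simp only [frm_diag, diagonal_kronecker_diagonal]

/-- `W^(q) ⊗ W^(q) ⊗ W^(p) ⊗ W`. -/
def twFour : Twist p I4T where
  T K _ _ A := (frm p K f A ⊗ₖ frm p K f A) ⊗ₖ (frm p K 1 A ⊗ₖ A)
  wt K _ d := fun i => (d i.1.1 ^ p ^ f * d i.1.2 ^ p ^ f) * (d i.2.1 ^ p ^ 1 * d i.2.2)
  T_one K _ _ := by simp only [frm_one, one_kronecker_one]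
  T_mul K _ _ A B := by simp only [frm_mul, mul_kronecker_mul]
  T_neg K _ _ A := by simp only [frm_neg, neg_kron]
  T_map K L _ _ _ _ ψ A := by simp only [frm_map, map_kron]
  T_diag K _ _ d := by simp only [frm_diag, diagonal_kronecker_diagonal]

end Defs

variable {p : ℕ} [hp : Fact p.Prime] {q f : ℕ}

theorem twTwo_good (hq : q = p ^ f) (hf : 1 ≤ f) : (twTwo p f).Good q := by
  obtain ⟨hq2, -, hodd, heven⟩ := q_facts (p := p) hq hf
  refine ⟨?_, ?_⟩
  · intro K _ _ y hy h
    have h0 := h (0, 0)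
    have h1 := h (0, 1)
    simp only [twTwo, ← hq, cons_val_zero, cons_val_one] at h0 h1
    field_simp at h1
    linear_combination h0 - y * h1
  · intro K _ _ x hx hxx _ hi
    obtain ⟨⟨a, b⟩, hab⟩ := hi
    have key : x ^ (q - 1) = 1 ∨ x ^ (q + 1) = 1 := by
      have hy : x ^ q * x = 1 ∨ x ^ q = x := by
        fin_cases a <;> fin_cases b <;> simp only [twTwo, ← hq, Fin.zero_eta, Fin.mk_one, Fin.isValue, cons_val_zero,
          cons_val_one, inv_pow] at hab <;> field_simp at hab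
        · left; linear_combination hab
        · right; linear_combination hab
        · right; linear_combination -hab
        · left; linear_combination -hab
      rcases hy with e | e
      · right; rw [pow_succ, e]
      · left
        apply mul_right_cancel₀ hx
        rw [one_mul, ← pow_succ, Nat.sub_add_cancel (by omega), e]
    rcases key with e | e
    · left; rw [mul_comm, pow_mul, e, one_pow]
    · right; rw [mul_comm, pow_mul, e, one_pow]

theorem twTwo_fixes (hq : q = p ^ f) (hf : 1 ≤ f) (h2 : p = 2) : (twTwo p f).Fixes q := by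
  obtain ⟨hq2, -, -, heven⟩ := q_facts (p := p) hq hf
  intro K _ _ x hx h
  rw [heven h2, one_mul, one_mul] at h
  rcases h with e | e
  · refine ⟨(0, 1), ?_⟩
    simp only [twTwo, ← hq, cons_val_zero, cons_val_one]
    rw [show q = q - 1 + 1 by omega, pow_succ, e, one_mul, mul_inv_cancel₀ hx]
  · refine ⟨(0, 0), ?_⟩
    simp only [twTwo, ← hq, cons_val_zero]
    rw [← pow_succ, e]

theorem four_arith {u : ℕ} (hu : 1 ≤ u) (hq : q = 9 ^ u) :
    4 ∣ q - 1 ∧ Nat.Coprime (q + 2) (q ^ 2 - 1) ∧ Nat.Coprime (q + 2) (q ^ 2 + 1) ∧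
      Nat.Coprime (q - 2) (q ^ 2 - 1) ∧ Nat.Coprime (q - 2) (q ^ 2 + 1) := by
  have h3 : 3 ∣ q := hq ▸ dvd_pow (by norm_num : 3 ∣ 9) (by omega)
  have h9 : 9 ≤ q := hq ▸ Nat.le_self_pow (by omega) 9
  have h5 : q % 5 = 1 ∨ q % 5 = 4 := by
    rw [hq, Nat.pow_mod]
    rcases Nat.even_or_odd u with ⟨v, rfl⟩ | ⟨v, rfl⟩
    · left; rw [← two_mul, pow_mul, Nat.pow_mod]; norm_num
    · right; rw [pow_succ, pow_mul, Nat.mul_mod, Nat.pow_mod]; norm_num
  have h4 : q % 4 = 1 := by rw [hq, Nat.pow_mod]; norm_num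
  obtain ⟨j, hj⟩ : ∃ j, q = j + 2 := ⟨q - 2, by omega⟩
  subst hj
  simp only [Nat.add_sub_cancel]
  have e1 : (j + 2) ^ 2 - 1 = (j + 4) * j + 3 := by
    have : (j + 2) ^ 2 = (j + 4) * j + 4 := by ring
    omega
  have e2 : (j + 2) ^ 2 + 1 = (j + 4) * j + 5 := by ring
  have c3 : Nat.Coprime (j + 4) 3 ∧ Nat.Coprime j 3 := by
    constructor <;> · rw [Nat.coprime_comm, Nat.prime_three.coprime_iff_not_dvd]; omega
  have c5 : Nat.Coprime (j + 4) 5 ∧ Nat.Coprime j 5 := by
    constructor <;> · rw [Nat.coprime_comm, (by norm_num : Nat.Prime 5).coprime_iff_not_dvd]; omega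
  refine ⟨by omega, ?_, ?_, ?_, ?_⟩
  · rw [show j + 2 + 2 = j + 4 by omega, e1, Nat.coprime_mul_left_add_right]; exact c3.1
  · rw [show j + 2 + 2 = j + 4 by omega, e2, Nat.coprime_mul_left_add_right]; exact c5.1
  · rw [e1, Nat.coprime_mul_right_add_right]; exact c3.2
  · rw [e2, Nat.coprime_mul_right_add_right]; exact c5.2

theorem twFour_good {u : ℕ} (hu : 1 ≤ u) (hp3 : p = 3) (hq : q = 9 ^ u) (hqf : q = p ^ f) : (twFour p f).Good q := by
  subst hp3
  obtain ⟨h4, hc1, hc2, hc3, hc4⟩ := four_arith hu hq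
  have h9 : 9 ≤ q := hq ▸ Nat.le_self_pow (by omega) 9
  refine ⟨?_, ?_⟩
  · intro K _ _ y hy h
    have h0 := h ((0, 1), (0, 1))
    simp only [twFour, ← hqf, pow_one, cons_val_zero, cons_val_one, inv_pow] at h0
    field_simp at h0
    linear_combination h0
  · intro K _ _ x hx hxx hxr hi
    obtain ⟨⟨⟨a, b⟩, ⟨c, d⟩⟩, hab⟩ := hi
    obtain ⟨y, hy⟩ : ∃ y, x ^ q = y := ⟨_, rfl⟩
    have hy0 : y ≠ 0 := hy ▸ pow_ne_zero _ hx
    have key : x ^ 4 = 1 ∨ x ^ 2 = 1 ∨ y ^ 2 * x ^ 4 = 1 ∨ y ^ 2 = x ^ 4 ∨ y ^ 2 * x ^ 2 = 1 ∨ y ^ 2 = x ^ 2 := by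
      fin_cases a <;> fin_cases b <;> fin_cases c <;> fin_cases d <;>
        simp only [twFour, ← hqf, pow_one, Fin.zero_eta, Fin.mk_one, Fin.isValue, cons_val_zero,
          cons_val_one, inv_pow, hy] at hab <;> field_simp at hab <;>
        first
          | exact Or.inl (by first | linear_combination hab | linear_combination -hab)
          | exact Or.inr (Or.inl (by first | linear_combination hab | linear_combination -hab))
          | exact Or.inr (Or.inr (Or.inl (by first | linear_combination hab | linear_combination -hab)))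
          | exact Or.inr (Or.inr (Or.inr (Or.inl (by first | linear_combination hab | linear_combination -hab))))
          | exact Or.inr (Or.inr (Or.inr (Or.inr (Or.inl (by first | linear_combination hab | linear_combination -hab)))))
          | exact Or.inr (Or.inr (Or.inr (Or.inr (Or.inr (by first | linear_combination hab | linear_combination -hab)))))
    subst hy
    have hsmall : x ^ 4 = 1 → x ^ (2 * (q - 1)) = 1 ∨ x ^ (2 * (q + 1)) = 1 := fun e => by
      left
      obtain ⟨r, hr⟩ := h4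
      rw [hr, show 2 * (4 * r) = 4 * (2 * r) by ring, pow_mul, e, one_pow]
    have hcop : ∀ m : ℕ, Nat.Coprime m (q ^ 2 - 1) → Nat.Coprime m (q ^ 2 + 1) → x ^ (2 * m) = 1 → False := by
      intro m ha hb hm
      have hx2 : x ^ 2 = 1 := by
        have e : ∀ N, Nat.Coprime m N → x ^ N = 1 → x ^ 2 = 1 := by
          intro N hN hxN
          have := (pow_gcd_eq_one (a := x ^ 2) (m := m) (n := N)).2
            ⟨by rw [← pow_mul, hm], by rw [← pow_mul, mul_comm, pow_mul, hxN, one_pow]⟩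
          rwa [hN.gcd_eq_one, pow_one] at this
        rcases hxr with h | h
        · exact e _ ha h
        · exact e _ hb h
      exact hxx (eq_inv_of_mul_eq_one_left (by rw [← pow_two, hx2]))
    rcases key with e | e | e | e | e | e
    · exact hsmall e
    · exact hsmall (by rw [show 4 = 2 * 2 from rfl, pow_mul, e, one_pow])
    · exact (hcop (q + 2) hc1 hc2 (by rw [← e]; ring)).elim
    · refine (hcop (q - 2) hc3 hc4 ?_).elim
      apply mul_right_cancel₀ (pow_ne_zero 4 hx)
      rw [one_mul, ← pow_add]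
      conv_rhs => rw [← e, ← pow_mul]
      congr 1
      omega
    · right; rw [← e]; ring
    · left
      apply mul_right_cancel₀ (pow_ne_zero 2 hx)
      rw [one_mul, ← pow_add]
      conv_rhs => rw [← e, ← pow_mul]
      congr 1
      omega

theorem twFour_fixes {u : ℕ} (hu : 1 ≤ u) (hp3 : p = 3) (hq : q = 9 ^ u) (hqf : q = p ^ f) : (twFour p f).Fixes q := by
  subst hp3
  have h9 : 9 ≤ q := hq ▸ Nat.le_self_pow (by omega) 9
  have hd : dl q = 2 := by
    refine Nat.gcd_eq_left ?_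
    have h4 : q % 2 = 1 := by rw [hq, Nat.pow_mod]; norm_num
    omega
  intro K _ _ x hx h
  rw [hd] at h
  rcases h with e | e
  · refine ⟨((0, 0), (1, 0)), ?_⟩
    simp only [twFour, ← hqf, pow_one, cons_val_zero, cons_val_one, inv_pow]
    field_simp
    have e' : x ^ (2 * (q - 1)) * x ^ 2 = x ^ 2 := by rw [e, one_mul]
    rw [← pow_add, show 2 * (q - 1) + 2 = 2 * q by omega] at e'
    linear_combination e'
  · refine ⟨((0, 0), (0, 1)), ?_⟩
    simp only [twFour, ← hqf, pow_one, cons_val_zero, cons_val_one, inv_pow]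
    field_simp
    linear_combination e

end Cfsg.Agent.PSp4Spec
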